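import Cfsg.Agent.Lib.Solv.AltSec.Five.DataCases

/-!
The cases of the certificates in characteristic five.
-/

set_option autoImplicit false

namespace Cfsg.Agent.Solv.AltSec.Five

variable {V : Type*} [AddCommGroup V] [inst : DistribMulAction (alternatingGroup (Fin 10)) V]

theorem k1pp_zero (H : Hyp 10 V) (hp : ∀ u : V, (5 : ℤ) • u = 0) (v : V)
    (hfix : ∀ g ∈ k1ppGens, el 10 (wcode 10 g.1) • v = g.2 • v)
    (h0 : opApp 10 eB v = (1 : ℤ) • v) : v = 0 := by
  letI : DistribMulAction (alternatingGroup (Fin k1ppSpec.n)) V := inst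
  have hb : k1ppSpec.Base v := base_of (S := k1ppSpec) (by norm_num [k1ppSpec]) v k1pp_tbl k1ppGens k1ppSteps
    k1pp_K k1pp_gens hfix
  have z : ∀ w' ∈ ([] : List (List (ℕ × ℤ))), k1ppSpec.ev v w' = 0 := fun w' h => absurd h List.not_mem_nil
  have h00 : ∀ w ∈ k1ppSeeds, k1ppSpec.ev v w = 0 := by
    intro w hw
    obtain ⟨i, hi, rfl⟩ := List.mem_iff_getElem.1 hw
    rw [← List.getD_eq_getElem _ [] hi]
    change i < 4 at hi
    interval_cases i
    · exact ev_opRel hb eB_evn k1pp_op0.1 (opApp_base hb k1pp_final h0) hp k1pp_op0.2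
    · exact Hyp.seed (S := k1ppSpec) H hb hp z fA_comm k1pp_fix1
    · exact Hyp.seed (S := k1ppSpec) H hb hp z fD0_comm k1pp_fix2
    · exact Hyp.seed (S := k1ppSpec) H hb hp z fD1_comm k1pp_fix3
  simpa using final_zero (S := k1ppSpec) hb hp h00 k1pp_final

theorem k1pm_zero (H : Hyp 10 V) (hp : ∀ u : V, (5 : ℤ) • u = 0) (v : V)
    (hfix : ∀ g ∈ k1pmGens, el 10 (wcode 10 g.1) • v = g.2 • v)
    (h0 : opApp 10 eB v = (1 : ℤ) • v) : v = 0 := by
  letI : DistribMulAction (alternatingGroup (Fin k1pmSpec.n)) V := inst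
  have hb : k1pmSpec.Base v := base_of (S := k1pmSpec) (by norm_num [k1pmSpec]) v k1pm_tbl k1pmGens k1pmSteps
    k1pm_K k1pm_gens hfix
  have z : ∀ w' ∈ ([] : List (List (ℕ × ℤ))), k1pmSpec.ev v w' = 0 := fun w' h => absurd h List.not_mem_nil
  have h00 : ∀ w ∈ k1pmSeeds, k1pmSpec.ev v w = 0 := by
    intro w hw
    obtain ⟨i, hi, rfl⟩ := List.mem_iff_getElem.1 hw
    rw [← List.getD_eq_getElem _ [] hi]
    change i < 1 at hi
    interval_cases i
    · exact ev_opRel hb eB_evn k1pm_op0.1 (opApp_base hb k1pm_final h0) hp k1pm_op0.2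
  simpa using final_zero (S := k1pmSpec) hb hp h00 k1pm_final

theorem k1mp_zero (H : Hyp 10 V) (hp : ∀ u : V, (5 : ℤ) • u = 0) (v : V)
    (hfix : ∀ g ∈ k1mpGens, el 10 (wcode 10 g.1) • v = g.2 • v)
    (h0 : opApp 10 eA v = (1 : ℤ) • v) : v = 0 := by
  letI : DistribMulAction (alternatingGroup (Fin k1mpSpec.n)) V := inst
  have hb : k1mpSpec.Base v := base_of (S := k1mpSpec) (by norm_num [k1mpSpec]) v k1mp_tbl k1mpGens k1mpSteps
    k1mp_K k1mp_gens hfix
  have z : ∀ w' ∈ ([] : List (List (ℕ × ℤ))), k1mpSpec.ev v w' = 0 := fun w' h => absurd h List.not_mem_nil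
  have h00 : ∀ w ∈ k1mpSeeds, k1mpSpec.ev v w = 0 := by
    intro w hw
    obtain ⟨i, hi, rfl⟩ := List.mem_iff_getElem.1 hw
    rw [← List.getD_eq_getElem _ [] hi]
    change i < 1 at hi
    interval_cases i
    · exact ev_opRel hb eA_evn k1mp_op0.1 (opApp_base hb k1mp_final h0) hp k1mp_op0.2
  simpa using final_zero (S := k1mpSpec) hb hp h00 k1mp_final

theorem k1mm_zero (H : Hyp 10 V) (hp : ∀ u : V, (5 : ℤ) • u = 0) (v : V)
    (hfix : ∀ g ∈ k1mmGens, el 10 (wcode 10 g.1) • v = g.2 • v)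
    (h0 : opApp 10 eA v = (1 : ℤ) • v) : v = 0 := by
  letI : DistribMulAction (alternatingGroup (Fin k1mmSpec.n)) V := inst
  have hb : k1mmSpec.Base v := base_of (S := k1mmSpec) (by norm_num [k1mmSpec]) v k1mm_tbl k1mmGens k1mmSteps
    k1mm_K k1mm_gens hfix
  have z : ∀ w' ∈ ([] : List (List (ℕ × ℤ))), k1mmSpec.ev v w' = 0 := fun w' h => absurd h List.not_mem_nil
  have h00 : ∀ w ∈ k1mmSeeds, k1mmSpec.ev v w = 0 := by
    intro w hw
    obtain ⟨i, hi, rfl⟩ := List.mem_iff_getElem.1 hw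
    rw [← List.getD_eq_getElem _ [] hi]
    change i < 1 at hi
    interval_cases i
    · exact ev_opRel hb eA_evn k1mm_op0.1 (opApp_base hb k1mm_final h0) hp k1mm_op0.2
  simpa using final_zero (S := k1mmSpec) hb hp h00 k1mm_final

theorem k0pp_zero (H : Hyp 10 V) (hp : ∀ u : V, (5 : ℤ) • u = 0) (v : V)
    (hfix : ∀ g ∈ k0ppGens, el 10 (wcode 10 g.1) • v = g.2 • v)
    (h0 : opApp 10 eA v = (0 : ℤ) • v)
    (h1 : opApp 10 eB v = (0 : ℤ) • v) : v = 0 := by
  letI : DistribMulAction (alternatingGroup (Fin k0ppSpec.n)) V := inst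
  have hb : k0ppSpec.Base v := base_of (S := k0ppSpec) (by norm_num [k0ppSpec]) v k0pp_tbl k0ppGens k0ppSteps
    k0pp_K k0pp_gens hfix
  have z : ∀ w' ∈ ([] : List (List (ℕ × ℤ))), k0ppSpec.ev v w' = 0 := fun w' h => absurd h List.not_mem_nil
  have h00 : ∀ w ∈ k0ppSeeds, k0ppSpec.ev v w = 0 := by
    intro w hw
    obtain ⟨i, hi, rfl⟩ := List.mem_iff_getElem.1 hw
    rw [← List.getD_eq_getElem _ [] hi]
    change i < 3 at hi
    interval_cases i
    · exact ev_opRel hb eA_evn k0pp_op0.1 (opApp_base hb k0pp_final h0) hp k0pp_op0.2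
    · exact ev_opRel hb eB_evn k0pp_op1.1 (opApp_base hb k0pp_final h1) hp k0pp_op1.2
    · exact Hyp.seed (S := k0ppSpec) H hb hp z fD0_comm k0pp_fix2
  simpa using final_zero (S := k0ppSpec) hb hp h00 k0pp_final

theorem k0pm_zero (H : Hyp 10 V) (hp : ∀ u : V, (5 : ℤ) • u = 0) (v : V)
    (hfix : ∀ g ∈ k0pmGens, el 10 (wcode 10 g.1) • v = g.2 • v)
    (h0 : opApp 10 eA v = (0 : ℤ) • v) : v = 0 := by
  letI : DistribMulAction (alternatingGroup (Fin k0pmSpec.n)) V := inst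
  have hb : k0pmSpec.Base v := base_of (S := k0pmSpec) (by norm_num [k0pmSpec]) v k0pm_tbl k0pmGens k0pmSteps
    k0pm_K k0pm_gens hfix
  have z : ∀ w' ∈ ([] : List (List (ℕ × ℤ))), k0pmSpec.ev v w' = 0 := fun w' h => absurd h List.not_mem_nil
  have h00 : ∀ w ∈ k0pmSeeds, k0pmSpec.ev v w = 0 := by
    intro w hw
    obtain ⟨i, hi, rfl⟩ := List.mem_iff_getElem.1 hw
    rw [← List.getD_eq_getElem _ [] hi]
    change i < 2 at hi
    interval_cases i
    · exact ev_opRel hb eA_evn k0pm_op0.1 (opApp_base hb k0pm_final h0) hp k0pm_op0.2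
    · exact Hyp.seed (S := k0pmSpec) H hb hp z fA_comm k0pm_fix1
  simpa using final_zero (S := k0pmSpec) hb hp h00 k0pm_final

theorem k0mp_zero (H : Hyp 10 V) (hp : ∀ u : V, (5 : ℤ) • u = 0) (v : V)
    (hfix : ∀ g ∈ k0mpGens, el 10 (wcode 10 g.1) • v = g.2 • v)
    (h0 : opApp 10 eB v = (0 : ℤ) • v) : v = 0 := by
  letI : DistribMulAction (alternatingGroup (Fin k0mpSpec.n)) V := inst
  have hb : k0mpSpec.Base v := base_of (S := k0mpSpec) (by norm_num [k0mpSpec]) v k0mp_tbl k0mpGens k0mpSteps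
    k0mp_K k0mp_gens hfix
  have z : ∀ w' ∈ ([] : List (List (ℕ × ℤ))), k0mpSpec.ev v w' = 0 := fun w' h => absurd h List.not_mem_nil
  have h00 : ∀ w ∈ k0mpSeeds, k0mpSpec.ev v w = 0 := by
    intro w hw
    obtain ⟨i, hi, rfl⟩ := List.mem_iff_getElem.1 hw
    rw [← List.getD_eq_getElem _ [] hi]
    change i < 2 at hi
    interval_cases i
    · exact ev_opRel hb eB_evn k0mp_op0.1 (opApp_base hb k0mp_final h0) hp k0mp_op0.2
    · exact Hyp.seed (S := k0mpSpec) H hb hp z fB_comm k0mp_fix1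
  simpa using final_zero (S := k0mpSpec) hb hp h00 k0mp_final

theorem k0mm_zero (H : Hyp 10 V) (hp : ∀ u : V, (5 : ℤ) • u = 0) (v : V)
    (hfix : ∀ g ∈ k0mmGens, el 10 (wcode 10 g.1) • v = g.2 • v) : v = 0 := by
  letI : DistribMulAction (alternatingGroup (Fin k0mmSpec.n)) V := inst
  have hb : k0mmSpec.Base v := base_of (S := k0mmSpec) (by norm_num [k0mmSpec]) v k0mm_tbl k0mmGens k0mmSteps
    k0mm_K k0mm_gens hfix
  have z : ∀ w' ∈ ([] : List (List (ℕ × ℤ))), k0mmSpec.ev v w' = 0 := fun w' h => absurd h List.not_mem_nil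
  have h00 : ∀ w ∈ k0mmSeeds, k0mmSpec.ev v w = 0 := by
    intro w hw
    obtain ⟨i, hi, rfl⟩ := List.mem_iff_getElem.1 hw
    rw [← List.getD_eq_getElem _ [] hi]
    change i < 2 at hi
    interval_cases i
    · exact Hyp.seed (S := k0mmSpec) H hb hp z fD0_comm k0mm_fix0
    · exact Hyp.seed (S := k0mmSpec) H hb hp z fD1_comm k0mm_fix1
  have h11 : ∀ w ∈ k0mmSeeds ++ [k0mmLift], k0mmSpec.ev v w = 0 := by
    intro w hw
    rcases List.mem_append.1 hw with h | h
    · exact h00 w h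
    · rw [List.mem_singleton] at h
      subst h
      exact Hyp.seed (S := k0mmSpec) H hb hp h00 fD1_comm k0mm_lift
  simpa using final_zero (S := k0mmSpec) hb hp h11 k0mm_final

theorem sixp_zero (H : Hyp 10 V) (hp : ∀ u : V, (5 : ℤ) • u = 0) (v : V)
    (hfix : ∀ g ∈ sixpGens, el 10 (wcode 10 g.1) • v = g.2 • v)
    (h0 : opApp 10 eS0 v = (1 : ℤ) • v)
    (h1 : opApp 10 eS5 v = (1 : ℤ) • v) : v = 0 := by
  letI : DistribMulAction (alternatingGroup (Fin sixpSpec.n)) V := inst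
  have hb : sixpSpec.Base v := base_of (S := sixpSpec) (by norm_num [sixpSpec]) v sixp_tbl sixpGens sixpSteps
    sixp_K sixp_gens hfix
  have z : ∀ w' ∈ ([] : List (List (ℕ × ℤ))), sixpSpec.ev v w' = 0 := fun w' h => absurd h List.not_mem_nil
  have h00 : ∀ w ∈ sixpSeeds, sixpSpec.ev v w = 0 := by
    intro w hw
    obtain ⟨i, hi, rfl⟩ := List.mem_iff_getElem.1 hw
    rw [← List.getD_eq_getElem _ [] hi]
    change i < 4 at hi
    interval_cases i
    · exact ev_opRel hb eS0_evn sixp_op0.1 (opApp_base hb sixp_final h0) hp sixp_op0.2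
    · exact ev_opRel hb eS5_evn sixp_op1.1 (opApp_base hb sixp_final h1) hp sixp_op1.2
    · exact Hyp.seed (S := sixpSpec) H hb hp z fA_comm sixp_fix2
    · exact Hyp.seed (S := sixpSpec) H hb hp z fT_comm sixp_fix3
  simpa using final_zero (S := sixpSpec) hb hp h00 sixp_final

theorem sixm_zero (H : Hyp 10 V) (hp : ∀ u : V, (5 : ℤ) • u = 0) (v : V)
    (hfix : ∀ g ∈ sixmGens, el 10 (wcode 10 g.1) • v = g.2 • v)
    (h0 : opApp 10 eS5 v = (1 : ℤ) • v) : v = 0 := by
  letI : DistribMulAction (alternatingGroup (Fin sixmSpec.n)) V := inst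
  have hb : sixmSpec.Base v := base_of (S := sixmSpec) (by norm_num [sixmSpec]) v sixm_tbl sixmGens sixmSteps
    sixm_K sixm_gens hfix
  have z : ∀ w' ∈ ([] : List (List (ℕ × ℤ))), sixmSpec.ev v w' = 0 := fun w' h => absurd h List.not_mem_nil
  have h00 : ∀ w ∈ sixmSeeds, sixmSpec.ev v w = 0 := by
    intro w hw
    obtain ⟨i, hi, rfl⟩ := List.mem_iff_getElem.1 hw
    rw [← List.getD_eq_getElem _ [] hi]
    change i < 1 at hi
    interval_cases i
    · exact ev_opRel hb eS5_evn sixm_op0.1 (opApp_base hb sixm_final h0) hp sixm_op0.2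
  simpa using final_zero (S := sixmSpec) hb hp h00 sixm_final

theorem tr_zero (H : Hyp 10 V) (hp : ∀ u : V, (5 : ℤ) • u = 0) (v : V)
    (hfix : ∀ g ∈ trGens, el 10 (wcode 10 g.1) • v = g.2 • v)
    (hfN : ∀ u : V, (∀ g ∈ fN, el 10 (wcode 10 g) • u = u) → u = 0) : v = 0 := by
  letI : DistribMulAction (alternatingGroup (Fin trSpec.n)) V := inst
  have hb : trSpec.Base v := base_of (S := trSpec) (by norm_num [trSpec]) v tr_tbl trGens trSteps
    tr_K tr_gens hfix
  have z : ∀ w' ∈ ([] : List (List (ℕ × ℤ))), trSpec.ev v w' = 0 := fun w' h => absurd h List.not_mem_nil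
  have h00 : ∀ w ∈ trSeeds, trSpec.ev v w = 0 := by
    intro w hw
    obtain ⟨i, hi, rfl⟩ := List.mem_iff_getElem.1 hw
    rw [← List.getD_eq_getElem _ [] hi]
    change i < 4 at hi
    interval_cases i
    · exact Hyp.seed (S := trSpec) H hb hp z fT_comm tr_fix0
    · exact Hyp.seed (S := trSpec) H hb hp z fT_comm tr_fix1
    · exact seed_fix hb hp tr_fix2 hfN
    · exact seed_fix hb hp tr_fix3 hfN
  simpa using final_zero (S := trSpec) hb hp h00 tr_final

theorem four_zero (H : Hyp 10 V) (hp : ∀ u : V, (5 : ℤ) • u = 0) (v : V)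
    (hfix : ∀ g ∈ fourGens, el 10 (wcode 10 g.1) • v = g.2 • v)
    (h0 : opApp 10 eA v = (0 : ℤ) • v)
    (hfN : ∀ u : V, (∀ g ∈ fN, el 10 (wcode 10 g) • u = u) → u = 0) : v = 0 := by
  letI : DistribMulAction (alternatingGroup (Fin fourSpec.n)) V := inst
  have hb : fourSpec.Base v := base_of (S := fourSpec) (by norm_num [fourSpec]) v four_tbl fourGens fourSteps
    four_K four_gens hfix
  have z : ∀ w' ∈ ([] : List (List (ℕ × ℤ))), fourSpec.ev v w' = 0 := fun w' h => absurd h List.not_mem_nil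
  have h00 : ∀ w ∈ fourSeeds, fourSpec.ev v w = 0 := by
    intro w hw
    obtain ⟨i, hi, rfl⟩ := List.mem_iff_getElem.1 hw
    rw [← List.getD_eq_getElem _ [] hi]
    change i < 2 at hi
    interval_cases i
    · exact ev_opRel hb eA_evn four_op0.1 (opApp_base hb four_final h0) hp four_op0.2
    · exact seed_fix hb hp four_fix1 hfN
  simpa using final_zero (S := fourSpec) hb hp h00 four_final

theorem fivep_zero (H : Hyp 10 V) (hp : ∀ u : V, (5 : ℤ) • u = 0) (v : V)
    (hfix : ∀ g ∈ fivepGens, el 10 (wcode 10 g.1) • v = g.2 • v)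
    (hfE : ∀ u : V, (∀ g ∈ fE, el 10 (wcode 10 g) • u = u) → u = 0) : v = 0 := by
  letI : DistribMulAction (alternatingGroup (Fin fivepSpec.n)) V := inst
  have hb : fivepSpec.Base v := base_of (S := fivepSpec) (by norm_num [fivepSpec]) v fivep_tbl fivepGens fivepSteps
    fivep_K fivep_gens hfix
  have z : ∀ w' ∈ ([] : List (List (ℕ × ℤ))), fivepSpec.ev v w' = 0 := fun w' h => absurd h List.not_mem_nil
  have h00 : ∀ w ∈ fivepSeeds, fivepSpec.ev v w = 0 := by
    intro w hw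
    obtain ⟨i, hi, rfl⟩ := List.mem_iff_getElem.1 hw
    rw [← List.getD_eq_getElem _ [] hi]
    change i < 1 at hi
    interval_cases i
    · exact seed_fix hb hp fivep_fix0 hfE
  simpa using final_zero (S := fivepSpec) hb hp h00 fivep_final

theorem fivem_zero (H : Hyp 10 V) (hp : ∀ u : V, (5 : ℤ) • u = 0) (v : V)
    (hfix : ∀ g ∈ fivemGens, el 10 (wcode 10 g.1) • v = g.2 • v)
    (h0 : opApp 10 eA v = (1 : ℤ) • v) : v = 0 := by
  letI : DistribMulAction (alternatingGroup (Fin fivemSpec.n)) V := inst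
  have hb : fivemSpec.Base v := base_of (S := fivemSpec) (by norm_num [fivemSpec]) v fivem_tbl fivemGens fivemSteps
    fivem_K fivem_gens hfix
  have z : ∀ w' ∈ ([] : List (List (ℕ × ℤ))), fivemSpec.ev v w' = 0 := fun w' h => absurd h List.not_mem_nil
  have h00 : ∀ w ∈ fivemSeeds, fivemSpec.ev v w = 0 := by
    intro w hw
    obtain ⟨i, hi, rfl⟩ := List.mem_iff_getElem.1 hw
    rw [← List.getD_eq_getElem _ [] hi]
    change i < 1 at hi
    interval_cases i
    · exact ev_opRel hb eA_evn fivem_op0.1 (opApp_base hb fivem_final h0) hp fivem_op0.2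
  simpa using final_zero (S := fivemSpec) hb hp h00 fivem_final

end Cfsg.Agent.Solv.AltSec.Five
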