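import Cfsg.Agent.Lib.Solv.AltSec.Five.DataOps

/-!
Certificate data in characteristic five.
-/

set_option autoImplicit false

namespace Cfsg.Agent.Solv.AltSec.Five

/-- The data of the space. -/
def k1ppSpec : Spec where
  n := 10
  N := 36
  T := 0x697851423059768142306978504213597680421369785041325976804132596871423098657142306978543102597684310259687042139865704213697854302159768430215968704132986570413298576142305968743102986574310298576042136978543210597684321059687430219865743021985760413298765142309857643102987650421359687432109865743210985764302198765041329876543102985764321098765430219876543210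
  K := [
  (654820258320, 1), (654820000545, 1), (654820057920, 1), (384523579920, 1), (444685627920, 1),
  (654820049970, 1), (654819988020, 1), (384523322145, 1), (444685370145, 1), (654820127745, 1),
  (384523379520, 1), (444685427520, 1), (436349448720, 1), (371390165520, 1), (517902447120, 1),
  (654820118595, 1), (654820245795, 1), (384523371570, 1), (444685419570, 1), (384523309620, 1),
  (444685357620, 1), (436349190945, 1), (371389907745, 1), (517902189345, 1), (654820196370, 1),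
  (654820188420, 1), (384523449345, 1), (444685497345, 1), (436349248320, 1), (371389965120, 1),
  (517902246720, 1), (508307976720, 1), (641686843920, 1), (589860975120, 1), (581524795920, 1),
  (384523440195, 1), (444685488195, 1), (384523567395, 1), (444685615395, 1), (436349240370, 1),
  (371389957170, 1), (517902238770, 1), (436349178420, 1), (371389895220, 1), (517902176820, 1),
  (508307718945, 1), (641686586145, 1), (589860717345, 1), (581524538145, 1), (384523517970, 1),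
  (444685565970, 1), (384523510020, 1), (444685558020, 1), (436349318145, 1), (371390034945, 1),
  (517902316545, 1), (508307776320, 1), (641686643520, 1), (589860774720, 1), (581524595520, 1),
  (436349308995, 1), (371390025795, 1), (517902307395, 1), (436349436195, 1), (371390152995, 1),
  (517902434595, 1), (508307768370, 1), (641686635570, 1), (589860766770, 1), (581524587570, 1),
  (508307706420, 1), (641686573620, 1), (589860704820, 1), (581524525620, 1), (436349386770, 1),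
  (371390103570, 1), (517902385170, 1), (436349378820, 1), (371390095620, 1), (517902377220, 1),
  (508307846145, 1), (641686713345, 1), (589860844545, 1), (581524665345, 1), (508307836995, 1),
  (641686704195, 1), (589860835395, 1), (581524656195, 1), (508307964195, 1), (641686831395, 1),
  (589860962595, 1), (581524783395, 1), (508307914770, 1), (641686781970, 1), (589860913170, 1),
  (581524733970, 1), (508307906820, 1), (641686774020, 1), (589860905220, 1), (581524726020, 1)]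

/-- Generators of the subgroup. -/
def k1ppGens : List (List (ℕ × ℕ) × ℤ) := [
  ([(0, 1), (1, 2), (2, 3), (3, 4)], 1), ([(1, 4), (2, 3)], 1),
  ([(5, 6), (6, 7), (7, 8), (8, 9)], 1), ([(6, 9), (7, 8)], 1)]

/-- The enumeration of the subgroup. -/
def k1ppSteps : List (ℕ × ℕ) := [
  (0, 0), (1, 0), (2, 0), (3, 0), (0, 1), (1, 1), (2, 1), (3, 1), (0, 2), (2, 2), (3, 2),
  (2, 3), (3, 3), (2, 4), (0, 5), (1, 5), (2, 5), (3, 5), (2, 6), (3, 6), (2, 7), (3, 7),
  (2, 8), (0, 9), (1, 9), (2, 9), (3, 9), (2, 10), (3, 10), (2, 11), (2, 12), (3, 12), (2, 14),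
  (3, 14), (2, 15), (3, 15), (2, 16), (3, 16), (2, 17), (3, 17), (2, 18), (2, 19), (3, 19),
  (2, 20), (2, 21), (3, 21), (2, 23), (3, 23), (2, 24), (3, 24), (2, 25), (3, 25), (2, 26),
  (3, 26), (2, 27), (2, 28), (3, 28), (2, 30), (3, 30), (2, 35), (3, 35), (2, 36), (2, 37),
  (3, 37), (2, 38), (2, 39), (3, 39), (2, 41), (3, 41), (2, 42), (3, 42), (2, 44), (3, 44),
  (2, 49), (3, 49), (2, 50), (2, 51), (3, 51), (2, 52), (2, 53), (3, 53), (2, 55), (3, 55),
  (2, 60), (3, 60), (2, 62), (3, 62), (2, 63), (3, 63), (2, 65), (3, 65), (2, 74), (3, 74),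
  (2, 76), (3, 76), (2, 77), (3, 77), (2, 79), (3, 79)]

/-- Words for the representatives. -/
def k1ppWords : List (List (ℕ × ℕ)) := [
  [], [(0, 1), (1, 2)], [(5, 6), (6, 7)], [(0, 2), (1, 2)], [(0, 2), (1, 3), (2, 3), (3, 4)],
  [(0, 1), (1, 2), (5, 6), (6, 7)], [(5, 7), (6, 7)], [(5, 7), (6, 8), (7, 8), (8, 9)],
  [(0, 3), (3, 4)], [(0, 2), (1, 2), (5, 6), (6, 7)], [(1, 3), (3, 4)],
  [(0, 2), (1, 3), (2, 3), (3, 4), (5, 6), (6, 7)], [(0, 1), (1, 2), (5, 7), (6, 7)],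
  [(0, 1), (1, 2), (5, 7), (6, 8), (7, 8), (8, 9)], [(5, 8), (8, 9)], [(6, 8), (8, 9)],
  [(0, 3), (3, 4), (5, 6), (6, 7)], [(0, 2), (1, 2), (5, 7), (6, 7)],
  [(0, 2), (1, 2), (5, 7), (6, 8), (7, 8), (8, 9)], [(1, 3), (3, 4), (5, 6), (6, 7)],
  [(0, 2), (1, 3), (2, 3), (3, 4), (5, 7), (6, 7)],
  [(0, 2), (1, 3), (2, 3), (3, 4), (5, 7), (6, 8), (7, 8), (8, 9)],
  [(0, 1), (1, 2), (5, 8), (8, 9)], [(0, 1), (1, 2), (6, 8), (8, 9)],
  [(0, 3), (3, 4), (5, 7), (6, 7)], [(0, 3), (3, 4), (5, 7), (6, 8), (7, 8), (8, 9)],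
  [(0, 2), (1, 2), (5, 8), (8, 9)], [(0, 2), (1, 2), (6, 8), (8, 9)],
  [(1, 3), (3, 4), (5, 7), (6, 7)], [(1, 3), (3, 4), (5, 7), (6, 8), (7, 8), (8, 9)],
  [(0, 2), (1, 3), (2, 3), (3, 4), (5, 8), (8, 9)],
  [(0, 2), (1, 3), (2, 3), (3, 4), (6, 8), (8, 9)], [(0, 3), (3, 4), (5, 8), (8, 9)],
  [(0, 3), (3, 4), (6, 8), (8, 9)], [(1, 3), (3, 4), (5, 8), (8, 9)],
  [(1, 3), (3, 4), (6, 8), (8, 9)]]

theorem k1pp_K : k1ppSpec.K = closeK 10 k1ppGens k1ppSteps [(idCode 10, 1)] := by decide +kernel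

theorem k1pp_tbl : k1ppSpec.tblOK k1ppWords = true := by decide +kernel

theorem k1pp_gens : k1ppGens.all (fun g => wordOK 10 g.1) = true := by decide +kernel

/-- Seed relations. -/
def k1ppSeeds : List (List (ℕ × ℤ)) := [
  [(0, 4), (2, 4), (6, 4), (7, 4), (14, 4), (15, 4)],
  [(0, 1), (1, 1), (3, 1), (4, 1), (8, 1), (10, 1)],
  [(0, 1), (5, 1), (17, 1), (21, 1), (32, 1), (35, 1)],
  [(8, 1), (14, 1), (18, 1), (19, 1), (20, 1), (23, 1)]]

/-- Images. -/
def k1ppJs0 : List (ℕ × ℕ) := [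
  (6, 3), (15, 4), (2, 33), (7, 34), (6, 14), (14, 34), (15, 0), (2, 12), (7, 13), (14, 13),
  (0, 4), (6, 33), (15, 34), (0, 14), (2, 0), (7, 33), (15, 13), (6, 0), (0, 33), (14, 33),
  (2, 14), (15, 33), (14, 12), (2, 32), (6, 32), (14, 0), (7, 3), (0, 32), (6, 31), (7, 31),
  (15, 31), (2, 34), (7, 32), (14, 32), (0, 13)]

theorem k1pp_op0 :
    opImgOK k1ppSpec 0 eB k1ppJs0 = true ∧
      eqCoef k1ppSpec.N 5 (k1ppSeeds.getD 0 []) (opRel k1ppSpec 0 eB k1ppJs0 1) = true := by decide +kernel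

/-- Invariance data. -/
def k1ppFix1 : List (List (ℕ × ℕ) × List (ℕ × ℕ) × List Inst) := [
  ([(0, 1), (1, 2)], [(1, 0), (3, 0), (0, 0), (10, 0), (4, 9), (8, 9)], []),
  ([(0, 1), (1, 2), (2, 3), (3, 4)], [(0, 1), (4, 0), (8, 0), (3, 15), (10, 16), (1, 2)], [])]

theorem k1pp_fix1 :
    fixOK k1ppSpec 5 [] (k1ppSeeds.getD 1 []) k1ppFix1 = true ∧
      k1ppFix1.map Prod.fst = fA := by decide +kernel

/-- Invariance data. -/
def k1ppFix2 : List (List (ℕ × ℕ) × List (ℕ × ℕ) × List Inst) := [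
  ([(0, 1), (1, 2), (5, 6), (6, 7)], [(5, 0), (17, 0), (0, 0), (35, 0), (21, 55), (32, 55)], []),
  ([(0, 1), (1, 2), (2, 3), (3, 4), (5, 6), (6, 7), (7, 8), (8, 9)], [(0, 7), (21, 0), (32, 0), (17, 84), (35, 89), (5, 11)], [])]

theorem k1pp_fix2 :
    fixOK k1ppSpec 5 [] (k1ppSeeds.getD 2 []) k1ppFix2 = true ∧
      k1ppFix2.map Prod.fst = fD0 := by decide +kernel

/-- Invariance data. -/
def k1ppFix3 : List (List (ℕ × ℕ) × List (ℕ × ℕ) × List Inst) := [
  ([(0, 1), (1, 2), (5, 7), (6, 7)], [(20, 9), (23, 14), (14, 14), (8, 9), (19, 0), (18, 0)], []),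
  ([(0, 1), (1, 2), (2, 3), (3, 4), (5, 7), (6, 7), (7, 8), (8, 9)], [(19, 37), (14, 45), (8, 31), (23, 2), (18, 62), (20, 4)], [])]

theorem k1pp_fix3 :
    fixOK k1ppSpec 5 [] (k1ppSeeds.getD 3 []) k1ppFix3 = true ∧
      k1ppFix3.map Prod.fst = fD1 := by decide +kernel

/-- A part of a certificate. -/
def k1ppCert0 : List Inst := [
  ⟨[], 0, 4, [(0, 0), (2, 0), (6, 0), (7, 0), (14, 0), (15, 0)]⟩,
  ⟨[(0, 4), (1, 2), (2, 3), (3, 4), (5, 6), (6, 7), (7, 8), (8, 9)], 3, 2, [(4, 51), (35, 89), (17, 84), (25, 15), (22, 16), (2, 18)]⟩,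
  ⟨[(1, 3), (3, 4), (5, 6), (6, 7), (7, 8), (8, 9)], 3, 4, [(0, 19), (35, 32), (12, 45), (25, 6), (26, 2), (11, 27)]⟩,
  ⟨[(0, 1), (1, 2), (5, 7), (6, 8), (7, 9), (8, 9)], 2, 3, [(1, 12), (17, 31), (15, 32), (34, 31), (11, 53), (25, 27)]⟩,
  ⟨[(0, 1), (1, 3), (2, 3), (3, 4), (5, 7), (6, 8), (7, 9), (8, 9)], 2, 3, [(8, 53), (28, 80), (27, 46), (14, 56), (5, 42), (21, 18)]⟩,
  ⟨[(0, 2), (1, 3), (2, 3), (3, 4), (5, 8), (6, 9), (7, 8), (8, 9)], 3, 1, [(3, 70), (21, 12), (15, 8), (34, 66), (5, 28), (24, 32)]⟩,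
  ⟨[(5, 7), (6, 8), (7, 8), (8, 9)], 2, 2, [(7, 0), (22, 0), (3, 3), (11, 4), (24, 13), (35, 12)]⟩,
  ⟨[(1, 3), (2, 4)], 2, 1, [(1, 5), (2, 15), (24, 15), (21, 16), (26, 5), (35, 2)]⟩,
  ⟨[(0, 1), (1, 2), (5, 7), (6, 8), (7, 9), (8, 9)], 3, 1, [(4, 53), (5, 12), (14, 31), (24, 80), (35, 32), (18, 4)]⟩,
  ⟨[(0, 1), (1, 2), (7, 8), (8, 9)], 3, 1, [(20, 26), (13, 32), (2, 31), (32, 55), (35, 14), (3, 4)]⟩,
  ⟨[(0, 2), (1, 3), (2, 4), (3, 4)], 2, 1, [(0, 5), (9, 15), (28, 16), (25, 15), (22, 5), (31, 2)]⟩,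
  ⟨[(5, 8), (6, 9), (7, 8), (8, 9)], 3, 1, [(8, 31), (7, 12), (27, 4), (34, 31), (11, 12), (12, 32)]⟩,
  ⟨[(0, 1), (1, 2), (5, 8), (7, 9)], 2, 4, [(13, 3), (9, 4), (6, 13), (10, 34), (31, 27), (32, 27)]⟩,
  ⟨[(0, 1), (1, 3), (2, 3), (3, 4), (5, 7), (6, 7), (7, 8), (8, 9)], 2, 4, [(16, 26), (35, 9), (18, 23), (0, 56), (22, 70), (20, 18)]⟩,
  ⟨[(0, 1), (1, 2)], 3, 1, [(4, 9), (22, 0), (7, 0), (16, 9), (28, 0), (27, 0)]⟩,
  ⟨[], 1, 1, [(0, 0), (1, 0), (3, 0), (4, 0), (8, 0), (10, 0)]⟩]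

/-- A certificate. -/
def k1ppCert : List Inst := k1ppCert0

theorem k1pp_final : finalOK k1ppSpec 5 k1ppSeeds k1ppCert 1 = true := by decide +kernel

/-- The data of the space. -/
def k1pmSpec : Spec where
  n := 10
  N := 36
  T := 0x697851423059768142306978504213597680421369785041325976804132596871423098657142306978543102597684310259687042139865704213697854302159768430215968704132986570413298576142305968743102986574310298576042136978543210597684321059687430219865743021985760413298765142309857643102987650421359687432109865743210985764302198765041329876543102985764321098765430219876543210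
  K := [
  (654820258320, 1), (654820000545, 1), (654820057920, 1), (384523579920, 1),
  (444685627920, -1), (654820049970, 1), (654819988020, 1), (384523322145, 1),
  (444685370145, -1), (654820127745, 1), (384523379520, 1), (444685427520, -1),
  (436349448720, 1), (371390165520, -1), (517902447120, -1), (654820118595, 1),
  (654820245795, 1), (384523371570, 1), (444685419570, -1), (384523309620, 1),
  (444685357620, -1), (436349190945, 1), (371389907745, -1), (517902189345, -1),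
  (654820196370, 1), (654820188420, 1), (384523449345, 1), (444685497345, -1),
  (436349248320, 1), (371389965120, -1), (517902246720, -1), (508307976720, 1),
  (641686843920, -1), (589860975120, -1), (581524795920, 1), (384523440195, 1),
  (444685488195, -1), (384523567395, 1), (444685615395, -1), (436349240370, 1),
  (371389957170, -1), (517902238770, -1), (436349178420, 1), (371389895220, -1),
  (517902176820, -1), (508307718945, 1), (641686586145, -1), (589860717345, -1),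
  (581524538145, 1), (384523517970, 1), (444685565970, -1), (384523510020, 1),
  (444685558020, -1), (436349318145, 1), (371390034945, -1), (517902316545, -1),
  (508307776320, 1), (641686643520, -1), (589860774720, -1), (581524595520, 1),
  (436349308995, 1), (371390025795, -1), (517902307395, -1), (436349436195, 1),
  (371390152995, -1), (517902434595, -1), (508307768370, 1), (641686635570, -1),
  (589860766770, -1), (581524587570, 1), (508307706420, 1), (641686573620, -1),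
  (589860704820, -1), (581524525620, 1), (436349386770, 1), (371390103570, -1),
  (517902385170, -1), (436349378820, 1), (371390095620, -1), (517902377220, -1),
  (508307846145, 1), (641686713345, -1), (589860844545, -1), (581524665345, 1),
  (508307836995, 1), (641686704195, -1), (589860835395, -1), (581524656195, 1),
  (508307964195, 1), (641686831395, -1), (589860962595, -1), (581524783395, 1),
  (508307914770, 1), (641686781970, -1), (589860913170, -1), (581524733970, 1),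
  (508307906820, 1), (641686774020, -1), (589860905220, -1), (581524726020, 1)]

/-- Generators of the subgroup. -/
def k1pmGens : List (List (ℕ × ℕ) × ℤ) := [
  ([(0, 1), (1, 2), (2, 3), (3, 4)], 1), ([(1, 4), (2, 3)], 1),
  ([(5, 6), (6, 7), (7, 8), (8, 9)], 1), ([(6, 9), (7, 8)], -1)]

/-- The enumeration of the subgroup. -/
def k1pmSteps : List (ℕ × ℕ) := [
  (0, 0), (1, 0), (2, 0), (3, 0), (0, 1), (1, 1), (2, 1), (3, 1), (0, 2), (2, 2), (3, 2),
  (2, 3), (3, 3), (2, 4), (0, 5), (1, 5), (2, 5), (3, 5), (2, 6), (3, 6), (2, 7), (3, 7),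
  (2, 8), (0, 9), (1, 9), (2, 9), (3, 9), (2, 10), (3, 10), (2, 11), (2, 12), (3, 12), (2, 14),
  (3, 14), (2, 15), (3, 15), (2, 16), (3, 16), (2, 17), (3, 17), (2, 18), (2, 19), (3, 19),
  (2, 20), (2, 21), (3, 21), (2, 23), (3, 23), (2, 24), (3, 24), (2, 25), (3, 25), (2, 26),
  (3, 26), (2, 27), (2, 28), (3, 28), (2, 30), (3, 30), (2, 35), (3, 35), (2, 36), (2, 37),
  (3, 37), (2, 38), (2, 39), (3, 39), (2, 41), (3, 41), (2, 42), (3, 42), (2, 44), (3, 44),
  (2, 49), (3, 49), (2, 50), (2, 51), (3, 51), (2, 52), (2, 53), (3, 53), (2, 55), (3, 55),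
  (2, 60), (3, 60), (2, 62), (3, 62), (2, 63), (3, 63), (2, 65), (3, 65), (2, 74), (3, 74),
  (2, 76), (3, 76), (2, 77), (3, 77), (2, 79), (3, 79)]

/-- Words for the representatives. -/
def k1pmWords : List (List (ℕ × ℕ)) := [
  [], [(0, 1), (1, 2)], [(5, 6), (6, 7)], [(0, 2), (1, 2)], [(0, 2), (1, 3), (2, 3), (3, 4)],
  [(0, 1), (1, 2), (5, 6), (6, 7)], [(5, 7), (6, 7)], [(5, 7), (6, 8), (7, 8), (8, 9)],
  [(0, 3), (3, 4)], [(0, 2), (1, 2), (5, 6), (6, 7)], [(1, 3), (3, 4)],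
  [(0, 2), (1, 3), (2, 3), (3, 4), (5, 6), (6, 7)], [(0, 1), (1, 2), (5, 7), (6, 7)],
  [(0, 1), (1, 2), (5, 7), (6, 8), (7, 8), (8, 9)], [(5, 8), (8, 9)], [(6, 8), (8, 9)],
  [(0, 3), (3, 4), (5, 6), (6, 7)], [(0, 2), (1, 2), (5, 7), (6, 7)],
  [(0, 2), (1, 2), (5, 7), (6, 8), (7, 8), (8, 9)], [(1, 3), (3, 4), (5, 6), (6, 7)],
  [(0, 2), (1, 3), (2, 3), (3, 4), (5, 7), (6, 7)],
  [(0, 2), (1, 3), (2, 3), (3, 4), (5, 7), (6, 8), (7, 8), (8, 9)],
  [(0, 1), (1, 2), (5, 8), (8, 9)], [(0, 1), (1, 2), (6, 8), (8, 9)],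
  [(0, 3), (3, 4), (5, 7), (6, 7)], [(0, 3), (3, 4), (5, 7), (6, 8), (7, 8), (8, 9)],
  [(0, 2), (1, 2), (5, 8), (8, 9)], [(0, 2), (1, 2), (6, 8), (8, 9)],
  [(1, 3), (3, 4), (5, 7), (6, 7)], [(1, 3), (3, 4), (5, 7), (6, 8), (7, 8), (8, 9)],
  [(0, 2), (1, 3), (2, 3), (3, 4), (5, 8), (8, 9)],
  [(0, 2), (1, 3), (2, 3), (3, 4), (6, 8), (8, 9)], [(0, 3), (3, 4), (5, 8), (8, 9)],
  [(0, 3), (3, 4), (6, 8), (8, 9)], [(1, 3), (3, 4), (5, 8), (8, 9)],
  [(1, 3), (3, 4), (6, 8), (8, 9)]]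

theorem k1pm_K : k1pmSpec.K = closeK 10 k1pmGens k1pmSteps [(idCode 10, 1)] := by decide +kernel

theorem k1pm_tbl : k1pmSpec.tblOK k1pmWords = true := by decide +kernel

theorem k1pm_gens : k1pmGens.all (fun g => wordOK 10 g.1) = true := by decide +kernel

/-- Seed relations. -/
def k1pmSeeds : List (List (ℕ × ℤ)) := [
  [(0, 4)]]

/-- Images. -/
def k1pmJs0 : List (ℕ × ℕ) := [
  (6, 3), (15, 4), (2, 33), (7, 34), (6, 14), (14, 34), (15, 0), (2, 12), (7, 13), (14, 13),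
  (0, 4), (6, 33), (15, 34), (0, 14), (2, 0), (7, 33), (15, 13), (6, 0), (0, 33), (14, 33),
  (2, 14), (15, 33), (14, 12), (2, 32), (6, 32), (14, 0), (7, 3), (0, 32), (6, 31), (7, 31),
  (15, 31), (2, 34), (7, 32), (14, 32), (0, 13)]

theorem k1pm_op0 :
    opImgOK k1pmSpec 0 eB k1pmJs0 = true ∧
      eqCoef k1pmSpec.N 5 (k1pmSeeds.getD 0 []) (opRel k1pmSpec 0 eB k1pmJs0 1) = true := by decide +kernel

/-- A part of a certificate. -/
def k1pmCert0 : List Inst := [
  ⟨[(5, 9), (6, 8)], 0, 1, [(0, 13)]⟩]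

/-- A certificate. -/
def k1pmCert : List Inst := k1pmCert0

theorem k1pm_final : finalOK k1pmSpec 5 k1pmSeeds k1pmCert 1 = true := by decide +kernel

/-- The data of the space. -/
def k1mpSpec : Spec where
  n := 10
  N := 36
  T := 0x697851423059768142306978504213597680421369785041325976804132596871423098657142306978543102597684310259687042139865704213697854302159768430215968704132986570413298576142305968743102986574310298576042136978543210597684321059687430219865743021985760413298765142309857643102987650421359687432109865743210985764302198765041329876543102985764321098765430219876543210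
  K := [
  (654820258320, 1), (654820000545, 1), (654820057920, -1), (384523579920, 1),
  (444685627920, 1), (654820049970, 1), (654819988020, -1), (384523322145, 1),
  (444685370145, 1), (654820127745, -1), (384523379520, -1), (444685427520, -1),
  (436349448720, 1), (371390165520, 1), (517902447120, 1), (654820118595, 1),
  (654820245795, -1), (384523371570, 1), (444685419570, 1), (384523309620, -1),
  (444685357620, -1), (436349190945, 1), (371389907745, 1), (517902189345, 1),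
  (654820196370, -1), (654820188420, 1), (384523449345, -1), (444685497345, -1),
  (436349248320, -1), (371389965120, -1), (517902246720, -1), (508307976720, 1),
  (641686843920, 1), (589860975120, 1), (581524795920, 1), (384523440195, 1), (444685488195, 1),
  (384523567395, -1), (444685615395, -1), (436349240370, 1), (371389957170, 1),
  (517902238770, 1), (436349178420, -1), (371389895220, -1), (517902176820, -1),
  (508307718945, 1), (641686586145, 1), (589860717345, 1), (581524538145, 1),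
  (384523517970, -1), (444685565970, -1), (384523510020, 1), (444685558020, 1),
  (436349318145, -1), (371390034945, -1), (517902316545, -1), (508307776320, -1),
  (641686643520, -1), (589860774720, -1), (581524595520, -1), (436349308995, 1),
  (371390025795, 1), (517902307395, 1), (436349436195, -1), (371390152995, -1),
  (517902434595, -1), (508307768370, 1), (641686635570, 1), (589860766770, 1),
  (581524587570, 1), (508307706420, -1), (641686573620, -1), (589860704820, -1),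
  (581524525620, -1), (436349386770, -1), (371390103570, -1), (517902385170, -1),
  (436349378820, 1), (371390095620, 1), (517902377220, 1), (508307846145, -1),
  (641686713345, -1), (589860844545, -1), (581524665345, -1), (508307836995, 1),
  (641686704195, 1), (589860835395, 1), (581524656195, 1), (508307964195, -1),
  (641686831395, -1), (589860962595, -1), (581524783395, -1), (508307914770, -1),
  (641686781970, -1), (589860913170, -1), (581524733970, -1), (508307906820, 1),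
  (641686774020, 1), (589860905220, 1), (581524726020, 1)]

/-- Generators of the subgroup. -/
def k1mpGens : List (List (ℕ × ℕ) × ℤ) := [
  ([(0, 1), (1, 2), (2, 3), (3, 4)], 1), ([(1, 4), (2, 3)], -1),
  ([(5, 6), (6, 7), (7, 8), (8, 9)], 1), ([(6, 9), (7, 8)], 1)]

/-- The enumeration of the subgroup. -/
def k1mpSteps : List (ℕ × ℕ) := [
  (0, 0), (1, 0), (2, 0), (3, 0), (0, 1), (1, 1), (2, 1), (3, 1), (0, 2), (2, 2), (3, 2),
  (2, 3), (3, 3), (2, 4), (0, 5), (1, 5), (2, 5), (3, 5), (2, 6), (3, 6), (2, 7), (3, 7),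
  (2, 8), (0, 9), (1, 9), (2, 9), (3, 9), (2, 10), (3, 10), (2, 11), (2, 12), (3, 12), (2, 14),
  (3, 14), (2, 15), (3, 15), (2, 16), (3, 16), (2, 17), (3, 17), (2, 18), (2, 19), (3, 19),
  (2, 20), (2, 21), (3, 21), (2, 23), (3, 23), (2, 24), (3, 24), (2, 25), (3, 25), (2, 26),
  (3, 26), (2, 27), (2, 28), (3, 28), (2, 30), (3, 30), (2, 35), (3, 35), (2, 36), (2, 37),
  (3, 37), (2, 38), (2, 39), (3, 39), (2, 41), (3, 41), (2, 42), (3, 42), (2, 44), (3, 44),
  (2, 49), (3, 49), (2, 50), (2, 51), (3, 51), (2, 52), (2, 53), (3, 53), (2, 55), (3, 55),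
  (2, 60), (3, 60), (2, 62), (3, 62), (2, 63), (3, 63), (2, 65), (3, 65), (2, 74), (3, 74),
  (2, 76), (3, 76), (2, 77), (3, 77), (2, 79), (3, 79)]

/-- Words for the representatives. -/
def k1mpWords : List (List (ℕ × ℕ)) := [
  [], [(0, 1), (1, 2)], [(5, 6), (6, 7)], [(0, 2), (1, 2)], [(0, 2), (1, 3), (2, 3), (3, 4)],
  [(0, 1), (1, 2), (5, 6), (6, 7)], [(5, 7), (6, 7)], [(5, 7), (6, 8), (7, 8), (8, 9)],
  [(0, 3), (3, 4)], [(0, 2), (1, 2), (5, 6), (6, 7)], [(1, 3), (3, 4)],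
  [(0, 2), (1, 3), (2, 3), (3, 4), (5, 6), (6, 7)], [(0, 1), (1, 2), (5, 7), (6, 7)],
  [(0, 1), (1, 2), (5, 7), (6, 8), (7, 8), (8, 9)], [(5, 8), (8, 9)], [(6, 8), (8, 9)],
  [(0, 3), (3, 4), (5, 6), (6, 7)], [(0, 2), (1, 2), (5, 7), (6, 7)],
  [(0, 2), (1, 2), (5, 7), (6, 8), (7, 8), (8, 9)], [(1, 3), (3, 4), (5, 6), (6, 7)],
  [(0, 2), (1, 3), (2, 3), (3, 4), (5, 7), (6, 7)],
  [(0, 2), (1, 3), (2, 3), (3, 4), (5, 7), (6, 8), (7, 8), (8, 9)],
  [(0, 1), (1, 2), (5, 8), (8, 9)], [(0, 1), (1, 2), (6, 8), (8, 9)],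
  [(0, 3), (3, 4), (5, 7), (6, 7)], [(0, 3), (3, 4), (5, 7), (6, 8), (7, 8), (8, 9)],
  [(0, 2), (1, 2), (5, 8), (8, 9)], [(0, 2), (1, 2), (6, 8), (8, 9)],
  [(1, 3), (3, 4), (5, 7), (6, 7)], [(1, 3), (3, 4), (5, 7), (6, 8), (7, 8), (8, 9)],
  [(0, 2), (1, 3), (2, 3), (3, 4), (5, 8), (8, 9)],
  [(0, 2), (1, 3), (2, 3), (3, 4), (6, 8), (8, 9)], [(0, 3), (3, 4), (5, 8), (8, 9)],
  [(0, 3), (3, 4), (6, 8), (8, 9)], [(1, 3), (3, 4), (5, 8), (8, 9)],
  [(1, 3), (3, 4), (6, 8), (8, 9)]]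

theorem k1mp_K : k1mpSpec.K = closeK 10 k1mpGens k1mpSteps [(idCode 10, 1)] := by decide +kernel

theorem k1mp_tbl : k1mpSpec.tblOK k1mpWords = true := by decide +kernel

theorem k1mp_gens : k1mpGens.all (fun g => wordOK 10 g.1) = true := by decide +kernel

/-- Seed relations. -/
def k1mpSeeds : List (List (ℕ × ℤ)) := [
  [(0, 4)]]

/-- Images. -/
def k1mpJs0 : List (ℕ × ℕ) := [
  (3, 1), (10, 2), (1, 24), (4, 25), (3, 9), (8, 25), (10, 0), (1, 5), (4, 6), (8, 6), (0, 2),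
  (3, 24), (10, 25), (0, 9), (1, 0), (4, 24), (10, 6), (3, 0), (0, 24), (8, 24), (1, 9),
  (10, 24), (8, 5), (1, 16), (3, 16), (8, 0), (4, 1), (0, 16), (3, 15), (4, 15), (10, 15),
  (1, 25), (4, 16), (8, 16), (0, 6)]

theorem k1mp_op0 :
    opImgOK k1mpSpec 0 eA k1mpJs0 = true ∧
      eqCoef k1mpSpec.N 5 (k1mpSeeds.getD 0 []) (opRel k1mpSpec 0 eA k1mpJs0 1) = true := by decide +kernel

/-- A part of a certificate. -/
def k1mpCert0 : List Inst := [
  ⟨[(0, 4), (1, 3)], 0, 1, [(0, 6)]⟩]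

/-- A certificate. -/
def k1mpCert : List Inst := k1mpCert0

theorem k1mp_final : finalOK k1mpSpec 5 k1mpSeeds k1mpCert 1 = true := by decide +kernel

/-- The data of the space. -/
def k1mmSpec : Spec where
  n := 10
  N := 36
  T := 0x697851423059768142306978504213597680421369785041325976804132596871423098657142306978543102597684310259687042139865704213697854302159768430215968704132986570413298576142305968743102986574310298576042136978543210597684321059687430219865743021985760413298765142309857643102987650421359687432109865743210985764302198765041329876543102985764321098765430219876543210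
  K := [
  (654820258320, 1), (654820000545, 1), (654820057920, -1), (384523579920, 1),
  (444685627920, -1), (654820049970, 1), (654819988020, -1), (384523322145, 1),
  (444685370145, -1), (654820127745, -1), (384523379520, -1), (444685427520, 1),
  (436349448720, 1), (371390165520, -1), (517902447120, -1), (654820118595, 1),
  (654820245795, -1), (384523371570, 1), (444685419570, -1), (384523309620, -1),
  (444685357620, 1), (436349190945, 1), (371389907745, -1), (517902189345, -1),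
  (654820196370, -1), (654820188420, 1), (384523449345, -1), (444685497345, 1),
  (436349248320, -1), (371389965120, 1), (517902246720, 1), (508307976720, 1),
  (641686843920, -1), (589860975120, -1), (581524795920, 1), (384523440195, 1),
  (444685488195, -1), (384523567395, -1), (444685615395, 1), (436349240370, 1),
  (371389957170, -1), (517902238770, -1), (436349178420, -1), (371389895220, 1),
  (517902176820, 1), (508307718945, 1), (641686586145, -1), (589860717345, -1),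
  (581524538145, 1), (384523517970, -1), (444685565970, 1), (384523510020, 1),
  (444685558020, -1), (436349318145, -1), (371390034945, 1), (517902316545, 1),
  (508307776320, -1), (641686643520, 1), (589860774720, 1), (581524595520, -1),
  (436349308995, 1), (371390025795, -1), (517902307395, -1), (436349436195, -1),
  (371390152995, 1), (517902434595, 1), (508307768370, 1), (641686635570, -1),
  (589860766770, -1), (581524587570, 1), (508307706420, -1), (641686573620, 1),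
  (589860704820, 1), (581524525620, -1), (436349386770, -1), (371390103570, 1),
  (517902385170, 1), (436349378820, 1), (371390095620, -1), (517902377220, -1),
  (508307846145, -1), (641686713345, 1), (589860844545, 1), (581524665345, -1),
  (508307836995, 1), (641686704195, -1), (589860835395, -1), (581524656195, 1),
  (508307964195, -1), (641686831395, 1), (589860962595, 1), (581524783395, -1),
  (508307914770, -1), (641686781970, 1), (589860913170, 1), (581524733970, -1),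
  (508307906820, 1), (641686774020, -1), (589860905220, -1), (581524726020, 1)]

/-- Generators of the subgroup. -/
def k1mmGens : List (List (ℕ × ℕ) × ℤ) := [
  ([(0, 1), (1, 2), (2, 3), (3, 4)], 1), ([(1, 4), (2, 3)], -1),
  ([(5, 6), (6, 7), (7, 8), (8, 9)], 1), ([(6, 9), (7, 8)], -1)]

/-- The enumeration of the subgroup. -/
def k1mmSteps : List (ℕ × ℕ) := [
  (0, 0), (1, 0), (2, 0), (3, 0), (0, 1), (1, 1), (2, 1), (3, 1), (0, 2), (2, 2), (3, 2),
  (2, 3), (3, 3), (2, 4), (0, 5), (1, 5), (2, 5), (3, 5), (2, 6), (3, 6), (2, 7), (3, 7),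
  (2, 8), (0, 9), (1, 9), (2, 9), (3, 9), (2, 10), (3, 10), (2, 11), (2, 12), (3, 12), (2, 14),
  (3, 14), (2, 15), (3, 15), (2, 16), (3, 16), (2, 17), (3, 17), (2, 18), (2, 19), (3, 19),
  (2, 20), (2, 21), (3, 21), (2, 23), (3, 23), (2, 24), (3, 24), (2, 25), (3, 25), (2, 26),
  (3, 26), (2, 27), (2, 28), (3, 28), (2, 30), (3, 30), (2, 35), (3, 35), (2, 36), (2, 37),
  (3, 37), (2, 38), (2, 39), (3, 39), (2, 41), (3, 41), (2, 42), (3, 42), (2, 44), (3, 44),
  (2, 49), (3, 49), (2, 50), (2, 51), (3, 51), (2, 52), (2, 53), (3, 53), (2, 55), (3, 55),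
  (2, 60), (3, 60), (2, 62), (3, 62), (2, 63), (3, 63), (2, 65), (3, 65), (2, 74), (3, 74),
  (2, 76), (3, 76), (2, 77), (3, 77), (2, 79), (3, 79)]

/-- Words for the representatives. -/
def k1mmWords : List (List (ℕ × ℕ)) := [
  [], [(0, 1), (1, 2)], [(5, 6), (6, 7)], [(0, 2), (1, 2)], [(0, 2), (1, 3), (2, 3), (3, 4)],
  [(0, 1), (1, 2), (5, 6), (6, 7)], [(5, 7), (6, 7)], [(5, 7), (6, 8), (7, 8), (8, 9)],
  [(0, 3), (3, 4)], [(0, 2), (1, 2), (5, 6), (6, 7)], [(1, 3), (3, 4)],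
  [(0, 2), (1, 3), (2, 3), (3, 4), (5, 6), (6, 7)], [(0, 1), (1, 2), (5, 7), (6, 7)],
  [(0, 1), (1, 2), (5, 7), (6, 8), (7, 8), (8, 9)], [(5, 8), (8, 9)], [(6, 8), (8, 9)],
  [(0, 3), (3, 4), (5, 6), (6, 7)], [(0, 2), (1, 2), (5, 7), (6, 7)],
  [(0, 2), (1, 2), (5, 7), (6, 8), (7, 8), (8, 9)], [(1, 3), (3, 4), (5, 6), (6, 7)],
  [(0, 2), (1, 3), (2, 3), (3, 4), (5, 7), (6, 7)],
  [(0, 2), (1, 3), (2, 3), (3, 4), (5, 7), (6, 8), (7, 8), (8, 9)],
  [(0, 1), (1, 2), (5, 8), (8, 9)], [(0, 1), (1, 2), (6, 8), (8, 9)],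
  [(0, 3), (3, 4), (5, 7), (6, 7)], [(0, 3), (3, 4), (5, 7), (6, 8), (7, 8), (8, 9)],
  [(0, 2), (1, 2), (5, 8), (8, 9)], [(0, 2), (1, 2), (6, 8), (8, 9)],
  [(1, 3), (3, 4), (5, 7), (6, 7)], [(1, 3), (3, 4), (5, 7), (6, 8), (7, 8), (8, 9)],
  [(0, 2), (1, 3), (2, 3), (3, 4), (5, 8), (8, 9)],
  [(0, 2), (1, 3), (2, 3), (3, 4), (6, 8), (8, 9)], [(0, 3), (3, 4), (5, 8), (8, 9)],
  [(0, 3), (3, 4), (6, 8), (8, 9)], [(1, 3), (3, 4), (5, 8), (8, 9)],
  [(1, 3), (3, 4), (6, 8), (8, 9)]]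

theorem k1mm_K : k1mmSpec.K = closeK 10 k1mmGens k1mmSteps [(idCode 10, 1)] := by decide +kernel

theorem k1mm_tbl : k1mmSpec.tblOK k1mmWords = true := by decide +kernel

theorem k1mm_gens : k1mmGens.all (fun g => wordOK 10 g.1) = true := by decide +kernel

/-- Seed relations. -/
def k1mmSeeds : List (List (ℕ × ℤ)) := [
  [(0, 4)]]

/-- Images. -/
def k1mmJs0 : List (ℕ × ℕ) := [
  (3, 1), (10, 2), (1, 24), (4, 25), (3, 9), (8, 25), (10, 0), (1, 5), (4, 6), (8, 6), (0, 2),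
  (3, 24), (10, 25), (0, 9), (1, 0), (4, 24), (10, 6), (3, 0), (0, 24), (8, 24), (1, 9),
  (10, 24), (8, 5), (1, 16), (3, 16), (8, 0), (4, 1), (0, 16), (3, 15), (4, 15), (10, 15),
  (1, 25), (4, 16), (8, 16), (0, 6)]

theorem k1mm_op0 :
    opImgOK k1mmSpec 0 eA k1mmJs0 = true ∧
      eqCoef k1mmSpec.N 5 (k1mmSeeds.getD 0 []) (opRel k1mmSpec 0 eA k1mmJs0 1) = true := by decide +kernel

/-- A part of a certificate. -/
def k1mmCert0 : List Inst := [
  ⟨[(0, 4), (1, 3)], 0, 1, [(0, 6)]⟩]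

/-- A certificate. -/
def k1mmCert : List Inst := k1mmCert0

theorem k1mm_final : finalOK k1mmSpec 5 k1mmSeeds k1mmCert 1 = true := by decide +kernel

/-- The data of the space. -/
def k0ppSpec : Spec where
  n := 10
  N := 36
  T := 0x697851423059768142306978504213597680421369785041325976804132596871423098657142306978543102597684310259687042139865704213697854302159768430215968704132986570413298576142305968743102986574310298576042136978543210597684321059687430219865743021985760413298765142309857643102987650421359687432109865743210985764302198765041329876543102985764321098765430219876543210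
  K := [
  (654820258320, 1), (654820000545, 1), (654820057920, 1), (384523579920, 1), (444685627920, 1),
  (654820049970, 1), (654819988020, 1), (384523322145, 1), (444685370145, 1), (654820127745, 1),
  (384523379520, 1), (444685427520, 1), (436349448720, 1), (371390165520, 1), (517902447120, 1),
  (654820118595, 1), (654820245795, 1), (384523371570, 1), (444685419570, 1), (384523309620, 1),
  (444685357620, 1), (436349190945, 1), (371389907745, 1), (517902189345, 1), (654820196370, 1),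
  (654820188420, 1), (384523449345, 1), (444685497345, 1), (436349248320, 1), (371389965120, 1),
  (517902246720, 1), (508307976720, 1), (641686843920, 1), (589860975120, 1), (581524795920, 1),
  (384523440195, 1), (444685488195, 1), (384523567395, 1), (444685615395, 1), (436349240370, 1),
  (371389957170, 1), (517902238770, 1), (436349178420, 1), (371389895220, 1), (517902176820, 1),
  (508307718945, 1), (641686586145, 1), (589860717345, 1), (581524538145, 1), (384523517970, 1),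
  (444685565970, 1), (384523510020, 1), (444685558020, 1), (436349318145, 1), (371390034945, 1),
  (517902316545, 1), (508307776320, 1), (641686643520, 1), (589860774720, 1), (581524595520, 1),
  (436349308995, 1), (371390025795, 1), (517902307395, 1), (436349436195, 1), (371390152995, 1),
  (517902434595, 1), (508307768370, 1), (641686635570, 1), (589860766770, 1), (581524587570, 1),
  (508307706420, 1), (641686573620, 1), (589860704820, 1), (581524525620, 1), (436349386770, 1),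
  (371390103570, 1), (517902385170, 1), (436349378820, 1), (371390095620, 1), (517902377220, 1),
  (508307846145, 1), (641686713345, 1), (589860844545, 1), (581524665345, 1), (508307836995, 1),
  (641686704195, 1), (589860835395, 1), (581524656195, 1), (508307964195, 1), (641686831395, 1),
  (589860962595, 1), (581524783395, 1), (508307914770, 1), (641686781970, 1), (589860913170, 1),
  (581524733970, 1), (508307906820, 1), (641686774020, 1), (589860905220, 1), (581524726020, 1)]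

/-- Generators of the subgroup. -/
def k0ppGens : List (List (ℕ × ℕ) × ℤ) := [
  ([(0, 1), (1, 2), (2, 3), (3, 4)], 1), ([(1, 4), (2, 3)], 1),
  ([(5, 6), (6, 7), (7, 8), (8, 9)], 1), ([(6, 9), (7, 8)], 1)]

/-- The enumeration of the subgroup. -/
def k0ppSteps : List (ℕ × ℕ) := [
  (0, 0), (1, 0), (2, 0), (3, 0), (0, 1), (1, 1), (2, 1), (3, 1), (0, 2), (2, 2), (3, 2),
  (2, 3), (3, 3), (2, 4), (0, 5), (1, 5), (2, 5), (3, 5), (2, 6), (3, 6), (2, 7), (3, 7),
  (2, 8), (0, 9), (1, 9), (2, 9), (3, 9), (2, 10), (3, 10), (2, 11), (2, 12), (3, 12), (2, 14),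
  (3, 14), (2, 15), (3, 15), (2, 16), (3, 16), (2, 17), (3, 17), (2, 18), (2, 19), (3, 19),
  (2, 20), (2, 21), (3, 21), (2, 23), (3, 23), (2, 24), (3, 24), (2, 25), (3, 25), (2, 26),
  (3, 26), (2, 27), (2, 28), (3, 28), (2, 30), (3, 30), (2, 35), (3, 35), (2, 36), (2, 37),
  (3, 37), (2, 38), (2, 39), (3, 39), (2, 41), (3, 41), (2, 42), (3, 42), (2, 44), (3, 44),
  (2, 49), (3, 49), (2, 50), (2, 51), (3, 51), (2, 52), (2, 53), (3, 53), (2, 55), (3, 55),
  (2, 60), (3, 60), (2, 62), (3, 62), (2, 63), (3, 63), (2, 65), (3, 65), (2, 74), (3, 74),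
  (2, 76), (3, 76), (2, 77), (3, 77), (2, 79), (3, 79)]

/-- Words for the representatives. -/
def k0ppWords : List (List (ℕ × ℕ)) := [
  [], [(0, 1), (1, 2)], [(5, 6), (6, 7)], [(0, 2), (1, 2)], [(0, 2), (1, 3), (2, 3), (3, 4)],
  [(0, 1), (1, 2), (5, 6), (6, 7)], [(5, 7), (6, 7)], [(5, 7), (6, 8), (7, 8), (8, 9)],
  [(0, 3), (3, 4)], [(0, 2), (1, 2), (5, 6), (6, 7)], [(1, 3), (3, 4)],
  [(0, 2), (1, 3), (2, 3), (3, 4), (5, 6), (6, 7)], [(0, 1), (1, 2), (5, 7), (6, 7)],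
  [(0, 1), (1, 2), (5, 7), (6, 8), (7, 8), (8, 9)], [(5, 8), (8, 9)], [(6, 8), (8, 9)],
  [(0, 3), (3, 4), (5, 6), (6, 7)], [(0, 2), (1, 2), (5, 7), (6, 7)],
  [(0, 2), (1, 2), (5, 7), (6, 8), (7, 8), (8, 9)], [(1, 3), (3, 4), (5, 6), (6, 7)],
  [(0, 2), (1, 3), (2, 3), (3, 4), (5, 7), (6, 7)],
  [(0, 2), (1, 3), (2, 3), (3, 4), (5, 7), (6, 8), (7, 8), (8, 9)],
  [(0, 1), (1, 2), (5, 8), (8, 9)], [(0, 1), (1, 2), (6, 8), (8, 9)],
  [(0, 3), (3, 4), (5, 7), (6, 7)], [(0, 3), (3, 4), (5, 7), (6, 8), (7, 8), (8, 9)],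
  [(0, 2), (1, 2), (5, 8), (8, 9)], [(0, 2), (1, 2), (6, 8), (8, 9)],
  [(1, 3), (3, 4), (5, 7), (6, 7)], [(1, 3), (3, 4), (5, 7), (6, 8), (7, 8), (8, 9)],
  [(0, 2), (1, 3), (2, 3), (3, 4), (5, 8), (8, 9)],
  [(0, 2), (1, 3), (2, 3), (3, 4), (6, 8), (8, 9)], [(0, 3), (3, 4), (5, 8), (8, 9)],
  [(0, 3), (3, 4), (6, 8), (8, 9)], [(1, 3), (3, 4), (5, 8), (8, 9)],
  [(1, 3), (3, 4), (6, 8), (8, 9)]]

theorem k0pp_K : k0ppSpec.K = closeK 10 k0ppGens k0ppSteps [(idCode 10, 1)] := by decide +kernel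

theorem k0pp_tbl : k0ppSpec.tblOK k0ppWords = true := by decide +kernel

theorem k0pp_gens : k0ppGens.all (fun g => wordOK 10 g.1) = true := by decide +kernel

/-- Seed relations. -/
def k0ppSeeds : List (List (ℕ × ℤ)) := [
  [(1, 4), (3, 4), (4, 4), (8, 4), (10, 4)], [(2, 4), (6, 4), (7, 4), (14, 4), (15, 4)],
  [(0, 1), (5, 1), (17, 1), (21, 1), (32, 1), (35, 1)]]

/-- Images. -/
def k0ppJs0 : List (ℕ × ℕ) := [
  (3, 1), (10, 2), (1, 24), (4, 25), (3, 9), (8, 25), (10, 0), (1, 5), (4, 6), (8, 6), (0, 2),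
  (3, 24), (10, 25), (0, 9), (1, 0), (4, 24), (10, 6), (3, 0), (0, 24), (8, 24), (1, 9),
  (10, 24), (8, 5), (1, 16), (3, 16), (8, 0), (4, 1), (0, 16), (3, 15), (4, 15), (10, 15),
  (1, 25), (4, 16), (8, 16), (0, 6)]

theorem k0pp_op0 :
    opImgOK k0ppSpec 0 eA k0ppJs0 = true ∧
      eqCoef k0ppSpec.N 5 (k0ppSeeds.getD 0 []) (opRel k0ppSpec 0 eA k0ppJs0 0) = true := by decide +kernel

/-- Images. -/
def k0ppJs1 : List (ℕ × ℕ) := [
  (6, 3), (15, 4), (2, 33), (7, 34), (6, 14), (14, 34), (15, 0), (2, 12), (7, 13), (14, 13),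
  (0, 4), (6, 33), (15, 34), (0, 14), (2, 0), (7, 33), (15, 13), (6, 0), (0, 33), (14, 33),
  (2, 14), (15, 33), (14, 12), (2, 32), (6, 32), (14, 0), (7, 3), (0, 32), (6, 31), (7, 31),
  (15, 31), (2, 34), (7, 32), (14, 32), (0, 13)]

theorem k0pp_op1 :
    opImgOK k0ppSpec 0 eB k0ppJs1 = true ∧
      eqCoef k0ppSpec.N 5 (k0ppSeeds.getD 1 []) (opRel k0ppSpec 0 eB k0ppJs1 0) = true := by decide +kernel

/-- Invariance data. -/
def k0ppFix2 : List (List (ℕ × ℕ) × List (ℕ × ℕ) × List Inst) := [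
  ([(0, 1), (1, 2), (5, 6), (6, 7)], [(5, 0), (17, 0), (0, 0), (35, 0), (21, 55), (32, 55)], []),
  ([(0, 1), (1, 2), (2, 3), (3, 4), (5, 6), (6, 7), (7, 8), (8, 9)], [(0, 7), (21, 0), (32, 0), (17, 84), (35, 89), (5, 11)], [])]

theorem k0pp_fix2 :
    fixOK k0ppSpec 5 [] (k0ppSeeds.getD 2 []) k0ppFix2 = true ∧
      k0ppFix2.map Prod.fst = fD0 := by decide +kernel

/-- A part of a certificate. -/
def k0ppCert0 : List Inst := [
  ⟨[(0, 2), (1, 3), (2, 3), (3, 4), (6, 8), (8, 9)], 0, 1, [(33, 0), (15, 1), (23, 2), (27, 6), (35, 5)]⟩,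
  ⟨[(0, 2), (1, 2), (5, 7), (6, 7)], 0, 3, [(6, 0), (12, 0), (24, 9), (28, 9), (20, 0)]⟩,
  ⟨[(0, 3), (3, 4), (5, 7), (6, 7)], 0, 3, [(6, 1), (20, 0), (28, 5), (12, 25), (17, 15)]⟩,
  ⟨[(1, 3), (3, 4), (5, 7), (6, 7)], 0, 2, [(20, 9), (12, 1), (17, 2), (6, 6), (24, 6)]⟩,
  ⟨[(1, 3), (3, 4), (5, 7), (6, 7)], 1, 1, [(10, 0), (19, 0), (34, 14), (35, 14), (29, 0)]⟩,
  ⟨[(5, 7), (6, 7)], 0, 3, [(12, 0), (17, 0), (20, 0), (24, 0), (28, 0)]⟩,
  ⟨[(0, 2), (1, 3), (2, 3), (3, 4), (5, 7), (6, 7)], 1, 4, [(4, 0), (11, 0), (30, 14), (31, 14), (21, 0)]⟩,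
  ⟨[(0, 2), (1, 3), (2, 3), (3, 4), (5, 7), (6, 8), (7, 8), (8, 9)], 1, 1, [(30, 0), (4, 3), (11, 4), (20, 13), (31, 12)]⟩,
  ⟨[(0, 2), (1, 3), (2, 3), (3, 4), (5, 6), (6, 7)], 0, 1, [(16, 0), (2, 1), (5, 2), (9, 6), (19, 5)]⟩,
  ⟨[(0, 3), (3, 4), (5, 6), (6, 7)], 0, 4, [(2, 1), (11, 0), (19, 5), (5, 25), (9, 15)]⟩,
  ⟨[(0, 2), (1, 2), (6, 8), (8, 9)], 0, 4, [(15, 0), (23, 0), (33, 9), (35, 9), (31, 0)]⟩,
  ⟨[(0, 2), (1, 3), (2, 3), (3, 4)], 1, 1, [(11, 0), (20, 0), (21, 0), (30, 0), (31, 0)]⟩,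
  ⟨[(0, 1), (1, 2), (5, 7), (6, 7)], 0, 2, [(17, 0), (6, 0), (28, 0), (20, 9), (24, 9)]⟩,
  ⟨[(5, 7), (6, 8), (7, 9), (8, 9)], 2, 1, [(0, 12), (12, 31), (27, 32), (30, 31), (16, 12), (29, 4)]⟩,
  ⟨[(1, 3), (3, 4), (5, 7), (6, 8), (7, 8), (8, 9)], 1, 4, [(34, 0), (10, 3), (19, 4), (28, 13), (35, 12)]⟩]

/-- A certificate. -/
def k0ppCert : List Inst := k0ppCert0

theorem k0pp_final : finalOK k0ppSpec 5 k0ppSeeds k0ppCert 1 = true := by decide +kernel

/-- The data of the space. -/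
def k0pmSpec : Spec where
  n := 10
  N := 36
  T := 0x697851423059768142306978504213597680421369785041325976804132596871423098657142306978543102597684310259687042139865704213697854302159768430215968704132986570413298576142305968743102986574310298576042136978543210597684321059687430219865743021985760413298765142309857643102987650421359687432109865743210985764302198765041329876543102985764321098765430219876543210
  K := [
  (654820258320, 1), (654820000545, 1), (654820057920, 1), (384523579920, 1),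
  (444685627920, -1), (654820049970, 1), (654819988020, 1), (384523322145, 1),
  (444685370145, -1), (654820127745, 1), (384523379520, 1), (444685427520, -1),
  (436349448720, 1), (371390165520, -1), (517902447120, -1), (654820118595, 1),
  (654820245795, 1), (384523371570, 1), (444685419570, -1), (384523309620, 1),
  (444685357620, -1), (436349190945, 1), (371389907745, -1), (517902189345, -1),
  (654820196370, 1), (654820188420, 1), (384523449345, 1), (444685497345, -1),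
  (436349248320, 1), (371389965120, -1), (517902246720, -1), (508307976720, 1),
  (641686843920, -1), (589860975120, -1), (581524795920, 1), (384523440195, 1),
  (444685488195, -1), (384523567395, 1), (444685615395, -1), (436349240370, 1),
  (371389957170, -1), (517902238770, -1), (436349178420, 1), (371389895220, -1),
  (517902176820, -1), (508307718945, 1), (641686586145, -1), (589860717345, -1),
  (581524538145, 1), (384523517970, 1), (444685565970, -1), (384523510020, 1),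
  (444685558020, -1), (436349318145, 1), (371390034945, -1), (517902316545, -1),
  (508307776320, 1), (641686643520, -1), (589860774720, -1), (581524595520, 1),
  (436349308995, 1), (371390025795, -1), (517902307395, -1), (436349436195, 1),
  (371390152995, -1), (517902434595, -1), (508307768370, 1), (641686635570, -1),
  (589860766770, -1), (581524587570, 1), (508307706420, 1), (641686573620, -1),
  (589860704820, -1), (581524525620, 1), (436349386770, 1), (371390103570, -1),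
  (517902385170, -1), (436349378820, 1), (371390095620, -1), (517902377220, -1),
  (508307846145, 1), (641686713345, -1), (589860844545, -1), (581524665345, 1),
  (508307836995, 1), (641686704195, -1), (589860835395, -1), (581524656195, 1),
  (508307964195, 1), (641686831395, -1), (589860962595, -1), (581524783395, 1),
  (508307914770, 1), (641686781970, -1), (589860913170, -1), (581524733970, 1),
  (508307906820, 1), (641686774020, -1), (589860905220, -1), (581524726020, 1)]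

/-- Generators of the subgroup. -/
def k0pmGens : List (List (ℕ × ℕ) × ℤ) := [
  ([(0, 1), (1, 2), (2, 3), (3, 4)], 1), ([(1, 4), (2, 3)], 1),
  ([(5, 6), (6, 7), (7, 8), (8, 9)], 1), ([(6, 9), (7, 8)], -1)]

/-- The enumeration of the subgroup. -/
def k0pmSteps : List (ℕ × ℕ) := [
  (0, 0), (1, 0), (2, 0), (3, 0), (0, 1), (1, 1), (2, 1), (3, 1), (0, 2), (2, 2), (3, 2),
  (2, 3), (3, 3), (2, 4), (0, 5), (1, 5), (2, 5), (3, 5), (2, 6), (3, 6), (2, 7), (3, 7),
  (2, 8), (0, 9), (1, 9), (2, 9), (3, 9), (2, 10), (3, 10), (2, 11), (2, 12), (3, 12), (2, 14),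
  (3, 14), (2, 15), (3, 15), (2, 16), (3, 16), (2, 17), (3, 17), (2, 18), (2, 19), (3, 19),
  (2, 20), (2, 21), (3, 21), (2, 23), (3, 23), (2, 24), (3, 24), (2, 25), (3, 25), (2, 26),
  (3, 26), (2, 27), (2, 28), (3, 28), (2, 30), (3, 30), (2, 35), (3, 35), (2, 36), (2, 37),
  (3, 37), (2, 38), (2, 39), (3, 39), (2, 41), (3, 41), (2, 42), (3, 42), (2, 44), (3, 44),
  (2, 49), (3, 49), (2, 50), (2, 51), (3, 51), (2, 52), (2, 53), (3, 53), (2, 55), (3, 55),
  (2, 60), (3, 60), (2, 62), (3, 62), (2, 63), (3, 63), (2, 65), (3, 65), (2, 74), (3, 74),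
  (2, 76), (3, 76), (2, 77), (3, 77), (2, 79), (3, 79)]

/-- Words for the representatives. -/
def k0pmWords : List (List (ℕ × ℕ)) := [
  [], [(0, 1), (1, 2)], [(5, 6), (6, 7)], [(0, 2), (1, 2)], [(0, 2), (1, 3), (2, 3), (3, 4)],
  [(0, 1), (1, 2), (5, 6), (6, 7)], [(5, 7), (6, 7)], [(5, 7), (6, 8), (7, 8), (8, 9)],
  [(0, 3), (3, 4)], [(0, 2), (1, 2), (5, 6), (6, 7)], [(1, 3), (3, 4)],
  [(0, 2), (1, 3), (2, 3), (3, 4), (5, 6), (6, 7)], [(0, 1), (1, 2), (5, 7), (6, 7)],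
  [(0, 1), (1, 2), (5, 7), (6, 8), (7, 8), (8, 9)], [(5, 8), (8, 9)], [(6, 8), (8, 9)],
  [(0, 3), (3, 4), (5, 6), (6, 7)], [(0, 2), (1, 2), (5, 7), (6, 7)],
  [(0, 2), (1, 2), (5, 7), (6, 8), (7, 8), (8, 9)], [(1, 3), (3, 4), (5, 6), (6, 7)],
  [(0, 2), (1, 3), (2, 3), (3, 4), (5, 7), (6, 7)],
  [(0, 2), (1, 3), (2, 3), (3, 4), (5, 7), (6, 8), (7, 8), (8, 9)],
  [(0, 1), (1, 2), (5, 8), (8, 9)], [(0, 1), (1, 2), (6, 8), (8, 9)],
  [(0, 3), (3, 4), (5, 7), (6, 7)], [(0, 3), (3, 4), (5, 7), (6, 8), (7, 8), (8, 9)],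
  [(0, 2), (1, 2), (5, 8), (8, 9)], [(0, 2), (1, 2), (6, 8), (8, 9)],
  [(1, 3), (3, 4), (5, 7), (6, 7)], [(1, 3), (3, 4), (5, 7), (6, 8), (7, 8), (8, 9)],
  [(0, 2), (1, 3), (2, 3), (3, 4), (5, 8), (8, 9)],
  [(0, 2), (1, 3), (2, 3), (3, 4), (6, 8), (8, 9)], [(0, 3), (3, 4), (5, 8), (8, 9)],
  [(0, 3), (3, 4), (6, 8), (8, 9)], [(1, 3), (3, 4), (5, 8), (8, 9)],
  [(1, 3), (3, 4), (6, 8), (8, 9)]]

theorem k0pm_K : k0pmSpec.K = closeK 10 k0pmGens k0pmSteps [(idCode 10, 1)] := by decide +kernel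

theorem k0pm_tbl : k0pmSpec.tblOK k0pmWords = true := by decide +kernel

theorem k0pm_gens : k0pmGens.all (fun g => wordOK 10 g.1) = true := by decide +kernel

/-- Seed relations. -/
def k0pmSeeds : List (List (ℕ × ℤ)) := [
  [(1, 4), (3, 4), (4, 4), (8, 4), (10, 4)], [(0, 1), (1, 1), (3, 1), (4, 1), (8, 1), (10, 1)]]

/-- Images. -/
def k0pmJs0 : List (ℕ × ℕ) := [
  (3, 1), (10, 2), (1, 24), (4, 25), (3, 9), (8, 25), (10, 0), (1, 5), (4, 6), (8, 6), (0, 2),
  (3, 24), (10, 25), (0, 9), (1, 0), (4, 24), (10, 6), (3, 0), (0, 24), (8, 24), (1, 9),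
  (10, 24), (8, 5), (1, 16), (3, 16), (8, 0), (4, 1), (0, 16), (3, 15), (4, 15), (10, 15),
  (1, 25), (4, 16), (8, 16), (0, 6)]

theorem k0pm_op0 :
    opImgOK k0pmSpec 0 eA k0pmJs0 = true ∧
      eqCoef k0pmSpec.N 5 (k0pmSeeds.getD 0 []) (opRel k0pmSpec 0 eA k0pmJs0 0) = true := by decide +kernel

/-- Invariance data. -/
def k0pmFix1 : List (List (ℕ × ℕ) × List (ℕ × ℕ) × List Inst) := [
  ([(0, 1), (1, 2)], [(1, 0), (3, 0), (0, 0), (10, 0), (4, 9), (8, 9)], []),
  ([(0, 1), (1, 2), (2, 3), (3, 4)], [(0, 1), (4, 0), (8, 0), (3, 15), (10, 16), (1, 2)], [])]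

theorem k0pm_fix1 :
    fixOK k0pmSpec 5 [] (k0pmSeeds.getD 1 []) k0pmFix1 = true ∧
      k0pmFix1.map Prod.fst = fA := by decide +kernel

/-- A part of a certificate. -/
def k0pmCert0 : List Inst := [
  ⟨[(5, 9), (6, 8)], 0, 4, [(1, 13), (3, 13), (4, 13), (8, 13), (10, 13)]⟩,
  ⟨[(5, 9), (6, 8)], 1, 4, [(0, 13), (1, 13), (3, 13), (4, 13), (8, 13), (10, 13)]⟩]

/-- A certificate. -/
def k0pmCert : List Inst := k0pmCert0

theorem k0pm_final : finalOK k0pmSpec 5 k0pmSeeds k0pmCert 1 = true := by decide +kernel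

/-- The data of the space. -/
def k0mpSpec : Spec where
  n := 10
  N := 36
  T := 0x697851423059768142306978504213597680421369785041325976804132596871423098657142306978543102597684310259687042139865704213697854302159768430215968704132986570413298576142305968743102986574310298576042136978543210597684321059687430219865743021985760413298765142309857643102987650421359687432109865743210985764302198765041329876543102985764321098765430219876543210
  K := [
  (654820258320, 1), (654820000545, 1), (654820057920, -1), (384523579920, 1),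
  (444685627920, 1), (654820049970, 1), (654819988020, -1), (384523322145, 1),
  (444685370145, 1), (654820127745, -1), (384523379520, -1), (444685427520, -1),
  (436349448720, 1), (371390165520, 1), (517902447120, 1), (654820118595, 1),
  (654820245795, -1), (384523371570, 1), (444685419570, 1), (384523309620, -1),
  (444685357620, -1), (436349190945, 1), (371389907745, 1), (517902189345, 1),
  (654820196370, -1), (654820188420, 1), (384523449345, -1), (444685497345, -1),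
  (436349248320, -1), (371389965120, -1), (517902246720, -1), (508307976720, 1),
  (641686843920, 1), (589860975120, 1), (581524795920, 1), (384523440195, 1), (444685488195, 1),
  (384523567395, -1), (444685615395, -1), (436349240370, 1), (371389957170, 1),
  (517902238770, 1), (436349178420, -1), (371389895220, -1), (517902176820, -1),
  (508307718945, 1), (641686586145, 1), (589860717345, 1), (581524538145, 1),
  (384523517970, -1), (444685565970, -1), (384523510020, 1), (444685558020, 1),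
  (436349318145, -1), (371390034945, -1), (517902316545, -1), (508307776320, -1),
  (641686643520, -1), (589860774720, -1), (581524595520, -1), (436349308995, 1),
  (371390025795, 1), (517902307395, 1), (436349436195, -1), (371390152995, -1),
  (517902434595, -1), (508307768370, 1), (641686635570, 1), (589860766770, 1),
  (581524587570, 1), (508307706420, -1), (641686573620, -1), (589860704820, -1),
  (581524525620, -1), (436349386770, -1), (371390103570, -1), (517902385170, -1),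
  (436349378820, 1), (371390095620, 1), (517902377220, 1), (508307846145, -1),
  (641686713345, -1), (589860844545, -1), (581524665345, -1), (508307836995, 1),
  (641686704195, 1), (589860835395, 1), (581524656195, 1), (508307964195, -1),
  (641686831395, -1), (589860962595, -1), (581524783395, -1), (508307914770, -1),
  (641686781970, -1), (589860913170, -1), (581524733970, -1), (508307906820, 1),
  (641686774020, 1), (589860905220, 1), (581524726020, 1)]

/-- Generators of the subgroup. -/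
def k0mpGens : List (List (ℕ × ℕ) × ℤ) := [
  ([(0, 1), (1, 2), (2, 3), (3, 4)], 1), ([(1, 4), (2, 3)], -1),
  ([(5, 6), (6, 7), (7, 8), (8, 9)], 1), ([(6, 9), (7, 8)], 1)]

/-- The enumeration of the subgroup. -/
def k0mpSteps : List (ℕ × ℕ) := [
  (0, 0), (1, 0), (2, 0), (3, 0), (0, 1), (1, 1), (2, 1), (3, 1), (0, 2), (2, 2), (3, 2),
  (2, 3), (3, 3), (2, 4), (0, 5), (1, 5), (2, 5), (3, 5), (2, 6), (3, 6), (2, 7), (3, 7),
  (2, 8), (0, 9), (1, 9), (2, 9), (3, 9), (2, 10), (3, 10), (2, 11), (2, 12), (3, 12), (2, 14),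
  (3, 14), (2, 15), (3, 15), (2, 16), (3, 16), (2, 17), (3, 17), (2, 18), (2, 19), (3, 19),
  (2, 20), (2, 21), (3, 21), (2, 23), (3, 23), (2, 24), (3, 24), (2, 25), (3, 25), (2, 26),
  (3, 26), (2, 27), (2, 28), (3, 28), (2, 30), (3, 30), (2, 35), (3, 35), (2, 36), (2, 37),
  (3, 37), (2, 38), (2, 39), (3, 39), (2, 41), (3, 41), (2, 42), (3, 42), (2, 44), (3, 44),
  (2, 49), (3, 49), (2, 50), (2, 51), (3, 51), (2, 52), (2, 53), (3, 53), (2, 55), (3, 55),
  (2, 60), (3, 60), (2, 62), (3, 62), (2, 63), (3, 63), (2, 65), (3, 65), (2, 74), (3, 74),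
  (2, 76), (3, 76), (2, 77), (3, 77), (2, 79), (3, 79)]

/-- Words for the representatives. -/
def k0mpWords : List (List (ℕ × ℕ)) := [
  [], [(0, 1), (1, 2)], [(5, 6), (6, 7)], [(0, 2), (1, 2)], [(0, 2), (1, 3), (2, 3), (3, 4)],
  [(0, 1), (1, 2), (5, 6), (6, 7)], [(5, 7), (6, 7)], [(5, 7), (6, 8), (7, 8), (8, 9)],
  [(0, 3), (3, 4)], [(0, 2), (1, 2), (5, 6), (6, 7)], [(1, 3), (3, 4)],
  [(0, 2), (1, 3), (2, 3), (3, 4), (5, 6), (6, 7)], [(0, 1), (1, 2), (5, 7), (6, 7)],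
  [(0, 1), (1, 2), (5, 7), (6, 8), (7, 8), (8, 9)], [(5, 8), (8, 9)], [(6, 8), (8, 9)],
  [(0, 3), (3, 4), (5, 6), (6, 7)], [(0, 2), (1, 2), (5, 7), (6, 7)],
  [(0, 2), (1, 2), (5, 7), (6, 8), (7, 8), (8, 9)], [(1, 3), (3, 4), (5, 6), (6, 7)],
  [(0, 2), (1, 3), (2, 3), (3, 4), (5, 7), (6, 7)],
  [(0, 2), (1, 3), (2, 3), (3, 4), (5, 7), (6, 8), (7, 8), (8, 9)],
  [(0, 1), (1, 2), (5, 8), (8, 9)], [(0, 1), (1, 2), (6, 8), (8, 9)],
  [(0, 3), (3, 4), (5, 7), (6, 7)], [(0, 3), (3, 4), (5, 7), (6, 8), (7, 8), (8, 9)],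
  [(0, 2), (1, 2), (5, 8), (8, 9)], [(0, 2), (1, 2), (6, 8), (8, 9)],
  [(1, 3), (3, 4), (5, 7), (6, 7)], [(1, 3), (3, 4), (5, 7), (6, 8), (7, 8), (8, 9)],
  [(0, 2), (1, 3), (2, 3), (3, 4), (5, 8), (8, 9)],
  [(0, 2), (1, 3), (2, 3), (3, 4), (6, 8), (8, 9)], [(0, 3), (3, 4), (5, 8), (8, 9)],
  [(0, 3), (3, 4), (6, 8), (8, 9)], [(1, 3), (3, 4), (5, 8), (8, 9)],
  [(1, 3), (3, 4), (6, 8), (8, 9)]]

theorem k0mp_K : k0mpSpec.K = closeK 10 k0mpGens k0mpSteps [(idCode 10, 1)] := by decide +kernel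

theorem k0mp_tbl : k0mpSpec.tblOK k0mpWords = true := by decide +kernel

theorem k0mp_gens : k0mpGens.all (fun g => wordOK 10 g.1) = true := by decide +kernel

/-- Seed relations. -/
def k0mpSeeds : List (List (ℕ × ℤ)) := [
  [(2, 4), (6, 4), (7, 4), (14, 4), (15, 4)], [(0, 1), (2, 1), (6, 1), (7, 1), (14, 1), (15, 1)]]

/-- Images. -/
def k0mpJs0 : List (ℕ × ℕ) := [
  (6, 3), (15, 4), (2, 33), (7, 34), (6, 14), (14, 34), (15, 0), (2, 12), (7, 13), (14, 13),
  (0, 4), (6, 33), (15, 34), (0, 14), (2, 0), (7, 33), (15, 13), (6, 0), (0, 33), (14, 33),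
  (2, 14), (15, 33), (14, 12), (2, 32), (6, 32), (14, 0), (7, 3), (0, 32), (6, 31), (7, 31),
  (15, 31), (2, 34), (7, 32), (14, 32), (0, 13)]

theorem k0mp_op0 :
    opImgOK k0mpSpec 0 eB k0mpJs0 = true ∧
      eqCoef k0mpSpec.N 5 (k0mpSeeds.getD 0 []) (opRel k0mpSpec 0 eB k0mpJs0 0) = true := by decide +kernel

/-- Invariance data. -/
def k0mpFix1 : List (List (ℕ × ℕ) × List (ℕ × ℕ) × List Inst) := [
  ([(5, 6), (6, 7)], [(2, 0), (6, 0), (0, 0), (15, 0), (7, 14), (14, 14)], []),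
  ([(5, 6), (6, 7), (7, 8), (8, 9)], [(0, 3), (7, 0), (14, 0), (6, 31), (15, 32), (2, 4)], [])]

theorem k0mp_fix1 :
    fixOK k0mpSpec 5 [] (k0mpSeeds.getD 1 []) k0mpFix1 = true ∧
      k0mpFix1.map Prod.fst = fB := by decide +kernel

/-- A part of a certificate. -/
def k0mpCert0 : List Inst := [
  ⟨[], 0, 1, [(2, 0), (6, 0), (7, 0), (14, 0), (15, 0)]⟩,
  ⟨[(0, 4), (1, 3)], 1, 4, [(0, 6), (2, 6), (6, 6), (7, 6), (14, 6), (15, 6)]⟩]

/-- A certificate. -/
def k0mpCert : List Inst := k0mpCert0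

theorem k0mp_final : finalOK k0mpSpec 5 k0mpSeeds k0mpCert 1 = true := by decide +kernel

/-- The data of the space. -/
def k0mmSpec : Spec where
  n := 10
  N := 36
  T := 0x697851423059768142306978504213597680421369785041325976804132596871423098657142306978543102597684310259687042139865704213697854302159768430215968704132986570413298576142305968743102986574310298576042136978543210597684321059687430219865743021985760413298765142309857643102987650421359687432109865743210985764302198765041329876543102985764321098765430219876543210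
  K := [
  (654820258320, 1), (654820000545, 1), (654820057920, -1), (384523579920, 1),
  (444685627920, -1), (654820049970, 1), (654819988020, -1), (384523322145, 1),
  (444685370145, -1), (654820127745, -1), (384523379520, -1), (444685427520, 1),
  (436349448720, 1), (371390165520, -1), (517902447120, -1), (654820118595, 1),
  (654820245795, -1), (384523371570, 1), (444685419570, -1), (384523309620, -1),
  (444685357620, 1), (436349190945, 1), (371389907745, -1), (517902189345, -1),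
  (654820196370, -1), (654820188420, 1), (384523449345, -1), (444685497345, 1),
  (436349248320, -1), (371389965120, 1), (517902246720, 1), (508307976720, 1),
  (641686843920, -1), (589860975120, -1), (581524795920, 1), (384523440195, 1),
  (444685488195, -1), (384523567395, -1), (444685615395, 1), (436349240370, 1),
  (371389957170, -1), (517902238770, -1), (436349178420, -1), (371389895220, 1),
  (517902176820, 1), (508307718945, 1), (641686586145, -1), (589860717345, -1),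
  (581524538145, 1), (384523517970, -1), (444685565970, 1), (384523510020, 1),
  (444685558020, -1), (436349318145, -1), (371390034945, 1), (517902316545, 1),
  (508307776320, -1), (641686643520, 1), (589860774720, 1), (581524595520, -1),
  (436349308995, 1), (371390025795, -1), (517902307395, -1), (436349436195, -1),
  (371390152995, 1), (517902434595, 1), (508307768370, 1), (641686635570, -1),
  (589860766770, -1), (581524587570, 1), (508307706420, -1), (641686573620, 1),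
  (589860704820, 1), (581524525620, -1), (436349386770, -1), (371390103570, 1),
  (517902385170, 1), (436349378820, 1), (371390095620, -1), (517902377220, -1),
  (508307846145, -1), (641686713345, 1), (589860844545, 1), (581524665345, -1),
  (508307836995, 1), (641686704195, -1), (589860835395, -1), (581524656195, 1),
  (508307964195, -1), (641686831395, 1), (589860962595, 1), (581524783395, -1),
  (508307914770, -1), (641686781970, 1), (589860913170, 1), (581524733970, -1),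
  (508307906820, 1), (641686774020, -1), (589860905220, -1), (581524726020, 1)]

/-- Generators of the subgroup. -/
def k0mmGens : List (List (ℕ × ℕ) × ℤ) := [
  ([(0, 1), (1, 2), (2, 3), (3, 4)], 1), ([(1, 4), (2, 3)], -1),
  ([(5, 6), (6, 7), (7, 8), (8, 9)], 1), ([(6, 9), (7, 8)], -1)]

/-- The enumeration of the subgroup. -/
def k0mmSteps : List (ℕ × ℕ) := [
  (0, 0), (1, 0), (2, 0), (3, 0), (0, 1), (1, 1), (2, 1), (3, 1), (0, 2), (2, 2), (3, 2),
  (2, 3), (3, 3), (2, 4), (0, 5), (1, 5), (2, 5), (3, 5), (2, 6), (3, 6), (2, 7), (3, 7),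
  (2, 8), (0, 9), (1, 9), (2, 9), (3, 9), (2, 10), (3, 10), (2, 11), (2, 12), (3, 12), (2, 14),
  (3, 14), (2, 15), (3, 15), (2, 16), (3, 16), (2, 17), (3, 17), (2, 18), (2, 19), (3, 19),
  (2, 20), (2, 21), (3, 21), (2, 23), (3, 23), (2, 24), (3, 24), (2, 25), (3, 25), (2, 26),
  (3, 26), (2, 27), (2, 28), (3, 28), (2, 30), (3, 30), (2, 35), (3, 35), (2, 36), (2, 37),
  (3, 37), (2, 38), (2, 39), (3, 39), (2, 41), (3, 41), (2, 42), (3, 42), (2, 44), (3, 44),
  (2, 49), (3, 49), (2, 50), (2, 51), (3, 51), (2, 52), (2, 53), (3, 53), (2, 55), (3, 55),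
  (2, 60), (3, 60), (2, 62), (3, 62), (2, 63), (3, 63), (2, 65), (3, 65), (2, 74), (3, 74),
  (2, 76), (3, 76), (2, 77), (3, 77), (2, 79), (3, 79)]

/-- Words for the representatives. -/
def k0mmWords : List (List (ℕ × ℕ)) := [
  [], [(0, 1), (1, 2)], [(5, 6), (6, 7)], [(0, 2), (1, 2)], [(0, 2), (1, 3), (2, 3), (3, 4)],
  [(0, 1), (1, 2), (5, 6), (6, 7)], [(5, 7), (6, 7)], [(5, 7), (6, 8), (7, 8), (8, 9)],
  [(0, 3), (3, 4)], [(0, 2), (1, 2), (5, 6), (6, 7)], [(1, 3), (3, 4)],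
  [(0, 2), (1, 3), (2, 3), (3, 4), (5, 6), (6, 7)], [(0, 1), (1, 2), (5, 7), (6, 7)],
  [(0, 1), (1, 2), (5, 7), (6, 8), (7, 8), (8, 9)], [(5, 8), (8, 9)], [(6, 8), (8, 9)],
  [(0, 3), (3, 4), (5, 6), (6, 7)], [(0, 2), (1, 2), (5, 7), (6, 7)],
  [(0, 2), (1, 2), (5, 7), (6, 8), (7, 8), (8, 9)], [(1, 3), (3, 4), (5, 6), (6, 7)],
  [(0, 2), (1, 3), (2, 3), (3, 4), (5, 7), (6, 7)],
  [(0, 2), (1, 3), (2, 3), (3, 4), (5, 7), (6, 8), (7, 8), (8, 9)],
  [(0, 1), (1, 2), (5, 8), (8, 9)], [(0, 1), (1, 2), (6, 8), (8, 9)],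
  [(0, 3), (3, 4), (5, 7), (6, 7)], [(0, 3), (3, 4), (5, 7), (6, 8), (7, 8), (8, 9)],
  [(0, 2), (1, 2), (5, 8), (8, 9)], [(0, 2), (1, 2), (6, 8), (8, 9)],
  [(1, 3), (3, 4), (5, 7), (6, 7)], [(1, 3), (3, 4), (5, 7), (6, 8), (7, 8), (8, 9)],
  [(0, 2), (1, 3), (2, 3), (3, 4), (5, 8), (8, 9)],
  [(0, 2), (1, 3), (2, 3), (3, 4), (6, 8), (8, 9)], [(0, 3), (3, 4), (5, 8), (8, 9)],
  [(0, 3), (3, 4), (6, 8), (8, 9)], [(1, 3), (3, 4), (5, 8), (8, 9)],
  [(1, 3), (3, 4), (6, 8), (8, 9)]]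

theorem k0mm_K : k0mmSpec.K = closeK 10 k0mmGens k0mmSteps [(idCode 10, 1)] := by decide +kernel

theorem k0mm_tbl : k0mmSpec.tblOK k0mmWords = true := by decide +kernel

theorem k0mm_gens : k0mmGens.all (fun g => wordOK 10 g.1) = true := by decide +kernel

/-- Seed relations. -/
def k0mmSeeds : List (List (ℕ × ℤ)) := [
  [(0, 1), (5, 1), (17, 1), (21, 1), (32, 1), (35, 1)],
  [(8, 1), (14, -1), (18, 1), (19, -1), (20, -1), (23, 1)]]

/-- Invariance data. -/
def k0mmFix0 : List (List (ℕ × ℕ) × List (ℕ × ℕ) × List Inst) := [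
  ([(0, 1), (1, 2), (5, 6), (6, 7)], [(5, 0), (17, 0), (0, 0), (35, 0), (21, 55), (32, 55)], []),
  ([(0, 1), (1, 2), (2, 3), (3, 4), (5, 6), (6, 7), (7, 8), (8, 9)], [(0, 7), (21, 0), (32, 0), (17, 84), (35, 89), (5, 11)], [])]

theorem k0mm_fix0 :
    fixOK k0mmSpec 5 [] (k0mmSeeds.getD 0 []) k0mmFix0 = true ∧
      k0mmFix0.map Prod.fst = fD0 := by decide +kernel

/-- Invariance data. -/
def k0mmFix1 : List (List (ℕ × ℕ) × List (ℕ × ℕ) × List Inst) := [
  ([(0, 1), (1, 2), (5, 7), (6, 7)], [(20, 9), (23, 14), (14, 14), (8, 9), (19, 0), (18, 0)], []),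
  ([(0, 1), (1, 2), (2, 3), (3, 4), (5, 7), (6, 7), (7, 8), (8, 9)], [(19, 37), (14, 45), (8, 31), (23, 2), (18, 62), (20, 4)], [])]

theorem k0mm_fix1 :
    fixOK k0mmSpec 5 [] (k0mmSeeds.getD 1 []) k0mmFix1 = true ∧
      k0mmFix1.map Prod.fst = fD1 := by decide +kernel

/-- A certificate. -/
def k0mmLiftCert0 : List Inst := []

/-- A part of a certificate. -/
def k0mmLiftCert10 : List Inst := [
  ⟨[(5, 8), (6, 9), (7, 9), (8, 9)], 1, 2, [(16, 31), (15, 12), (26, 3), (29, 32), (20, 12), (1, 32)]⟩,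
  ⟨[(0, 2), (1, 4), (2, 3), (3, 4)], 0, 3, [(3, 2), (2, 6), (28, 1), (21, 1), (22, 2), (33, 24)]⟩,
  ⟨[(0, 3), (1, 4), (2, 4), (3, 4)], 1, 3, [(10, 5), (22, 15), (18, 5), (2, 16), (24, 1), (31, 16)]⟩,
  ⟨[(0, 1), (2, 4)], 0, 1, [(0, 9), (11, 6), (28, 15), (13, 6), (32, 2), (27, 5)]⟩,
  ⟨[], 0, 1, [(0, 0), (5, 0), (17, 0), (21, 0), (32, 0), (35, 0)]⟩,
  ⟨[(0, 1), (1, 3), (2, 3), (3, 4), (5, 7), (6, 8), (7, 9), (8, 9)], 0, 3, [(8, 53), (28, 80), (27, 46), (14, 56), (5, 42), (21, 18)]⟩,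
  ⟨[(0, 2), (1, 3), (2, 3), (3, 4), (7, 8), (8, 9)], 0, 3, [(20, 3), (32, 14), (15, 23), (5, 56), (18, 71), (10, 18)]⟩,
  ⟨[(0, 1), (1, 2), (5, 8), (6, 7), (7, 9), (8, 9)], 0, 2, [(23, 3), (17, 4), (0, 13), (19, 34), (30, 26), (25, 26)]⟩,
  ⟨[(0, 2), (1, 3), (2, 4), (3, 4), (5, 7), (6, 8), (7, 8), (8, 9)], 0, 3, [(7, 5), (26, 15), (10, 37), (16, 36), (12, 40), (31, 28)]⟩,
  ⟨[(5, 6), (6, 8), (7, 8), (8, 9)], 0, 2, [(14, 14), (23, 14), (17, 3), (4, 4), (16, 13), (29, 12)]⟩,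
  ⟨[(0, 3), (1, 4), (2, 3), (3, 4)], 1, 4, [(4, 5), (14, 15), (13, 5), (9, 16), (28, 2), (33, 15)]⟩,
  ⟨[(0, 4), (1, 2), (2, 3), (3, 4), (5, 7), (6, 8), (7, 9), (8, 9)], 1, 3, [(4, 77), (19, 63), (26, 84), (24, 84), (23, 89), (7, 18)]⟩,
  ⟨[(1, 3), (3, 4), (5, 7), (6, 8), (7, 9), (8, 9)], 0, 3, [(10, 12), (20, 80), (23, 46), (26, 56), (2, 42), (25, 20)]⟩,
  ⟨[(5, 7), (6, 8), (7, 9), (8, 9)], 0, 3, [(0, 12), (12, 31), (27, 32), (30, 31), (16, 12), (29, 4)]⟩,
  ⟨[(0, 4), (1, 4), (2, 3), (3, 4)], 0, 3, [(8, 15), (5, 5), (6, 15), (18, 16), (34, 25), (31, 16)]⟩,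
  ⟨[(0, 2), (1, 4), (2, 3), (3, 4), (5, 7), (6, 8), (7, 9), (8, 9)], 0, 3, [(3, 28), (6, 70), (35, 46), (30, 45), (5, 28), (25, 50)]⟩,
  ⟨[(0, 3), (3, 4), (5, 6), (6, 7), (7, 8), (8, 9)], 1, 3, [(1, 51), (33, 32), (20, 31), (18, 15), (34, 5), (2, 8)]⟩,
  ⟨[(0, 2), (1, 3), (2, 3), (3, 4), (5, 7), (6, 8), (7, 9), (8, 9)], 1, 4, [(3, 42), (11, 12), (14, 45), (28, 66), (23, 57), (25, 4)]⟩,
  ⟨[(0, 2), (1, 3), (2, 3), (3, 4), (5, 7), (6, 7), (7, 8), (8, 9)], 1, 4, [(9, 19), (30, 31), (0, 45), (35, 5), (13, 30), (24, 4)]⟩,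
  ⟨[(0, 1), (1, 2), (7, 8), (8, 9)], 1, 1, [(20, 26), (13, 32), (2, 31), (32, 55), (35, 14), (3, 4)]⟩]

/-- A certificate. -/
def k0mmLiftCert1 : List Inst := k0mmLiftCert10

/-- The lifted relation. -/
def k0mmLift : List (ℕ × ℤ) := [
  (21, 4), (29, 4), (31, 4), (32, 4), (33, 1), (34, 1)]

/-- Invariance data. -/
def k0mmLiftFix : List (List (ℕ × ℕ) × List (ℕ × ℕ) × List Inst) := [
  ([(0, 1), (1, 2), (5, 7), (6, 7)], [(34, 14), (32, 55), (29, 0), (31, 55), (21, 9), (33, 55)], k0mmLiftCert0),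
  ([(0, 1), (1, 2), (2, 3), (3, 4), (5, 7), (6, 7), (7, 8), (8, 9)], [(3, 84), (1, 56), (17, 36), (34, 88), (28, 38), (22, 56)], k0mmLiftCert1)]

theorem k0mm_lift :
    fixOK k0mmSpec 5 k0mmSeeds k0mmLift k0mmLiftFix = true ∧
      k0mmLiftFix.map Prod.fst = fD1 := by decide +kernel

/-- A part of a certificate. -/
def k0mmCert0 : List Inst := [
  ⟨[(0, 1), (1, 2), (2, 4), (3, 4), (5, 8), (6, 7), (7, 9), (8, 9)], 2, 3, [(11, 87), (2, 83), (21, 35), (26, 26), (18, 26), (14, 26)]⟩,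
  ⟨[(5, 6), (6, 9), (7, 9), (8, 9)], 2, 3, [(20, 14), (28, 14), (11, 0), (32, 12), (16, 0), (34, 12)]⟩,
  ⟨[(5, 6), (6, 8), (7, 9), (8, 9)], 2, 2, [(31, 32), (35, 32), (30, 3), (8, 12), (32, 3), (10, 12)]⟩,
  ⟨[(1, 3), (2, 3), (5, 7), (6, 8), (7, 9), (8, 9)], 2, 2, [(14, 45), (22, 92), (7, 8), (11, 12), (21, 4), (5, 74)]⟩,
  ⟨[(0, 4), (2, 4), (5, 7), (6, 8), (7, 9), (8, 9)], 2, 3, [(32, 96), (22, 70), (25, 52), (9, 63), (18, 38), (5, 42)]⟩,
  ⟨[(0, 2), (1, 3), (2, 3), (3, 4), (5, 9), (6, 7), (7, 9), (8, 9)], 2, 2, [(1, 2), (10, 5), (23, 56), (9, 6), (27, 70), (19, 5)]⟩,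
  ⟨[(0, 4), (1, 3), (2, 3), (3, 4), (5, 8), (7, 9)], 2, 2, [(10, 99), (0, 99), (34, 52), (33, 52), (32, 52), (15, 52)]⟩,
  ⟨[(0, 1), (1, 2), (2, 3), (3, 4), (5, 6), (6, 7)], 0, 2, [(2, 1), (20, 0), (8, 0), (27, 15), (29, 65), (22, 30)]⟩,
  ⟨[(0, 1), (2, 4)], 0, 2, [(0, 9), (11, 6), (28, 15), (13, 6), (32, 2), (27, 5)]⟩,
  ⟨[(0, 4), (1, 3), (2, 3), (3, 4), (5, 6), (6, 7), (7, 8), (8, 9)], 2, 3, [(28, 96), (6, 96), (19, 52), (33, 97), (16, 52), (15, 97)]⟩,
  ⟨[(0, 4), (1, 2), (2, 3), (3, 4)], 2, 3, [(13, 16), (25, 15), (23, 16), (30, 25), (31, 25), (32, 15)]⟩,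
  ⟨[(0, 4), (1, 2), (2, 4), (3, 4), (5, 9), (8, 9)], 2, 2, [(6, 0), (28, 15), (7, 31), (1, 0), (13, 31), (10, 15)]⟩,
  ⟨[(0, 2), (2, 3)], 2, 3, [(29, 9), (13, 1), (35, 9), (26, 1), (27, 1), (22, 1)]⟩]

/-- A certificate. -/
def k0mmCert : List Inst := k0mmCert0

theorem k0mm_final : finalOK k0mmSpec 5 (k0mmSeeds ++ [k0mmLift]) k0mmCert 1 = true := by decide +kernel

/-- The data of the space. -/
def sixpSpec : Spec where
  n := 10
  N := 36
  T := 0x987620143598765320419876542130987653241098761253409876432501987610532498764210359876431520987643201598761052439876421350987601534298763214059876025314987631502498760541239876421503987632541098763210549876025143987631524098760542319876215304987625401398763154029876054312987621504398762541309876154203987625430198761540329876543102987615432098765430219876543210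
  K := [
  (654820258320, 1), (654820000545, 1), (654820057920, 1), (654820049970, 1), (654819988020, 1),
  (654820127745, 1), (654820118595, 1), (654820245795, 1), (654820196370, 1), (654820188420, 1)]

/-- Generators of the subgroup. -/
def sixpGens : List (List (ℕ × ℕ) × ℤ) := [
  ([(0, 1), (1, 2), (2, 3), (3, 4)], 1), ([(1, 4), (2, 3)], 1)]

/-- The enumeration of the subgroup. -/
def sixpSteps : List (ℕ × ℕ) := [
  (0, 0), (1, 0), (0, 1), (1, 1), (0, 2), (0, 3), (1, 3), (0, 5), (1, 5)]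

/-- Words for the representatives. -/
def sixpWords : List (List (ℕ × ℕ)) := [
  [], [(0, 1), (1, 2)], [(1, 2), (2, 3), (3, 4), (4, 5)], [(0, 2), (1, 2)],
  [(0, 2), (1, 3), (3, 4), (4, 5)], [(0, 1), (2, 3), (3, 4), (4, 5)],
  [(0, 3), (1, 3), (3, 4), (4, 5)], [(1, 3), (2, 3), (3, 4), (4, 5)],
  [(0, 3), (1, 4), (2, 3), (3, 5)], [(0, 2), (2, 3), (3, 4), (4, 5)],
  [(0, 2), (1, 2), (2, 4), (3, 5)], [(0, 3), (2, 3), (3, 4), (4, 5)],
  [(0, 4), (1, 4), (2, 3), (3, 5)], [(0, 1), (1, 3), (3, 4), (4, 5)], [(1, 4), (3, 5)],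
  [(0, 3), (1, 4), (2, 4), (3, 5)], [(0, 4), (1, 5), (2, 4), (3, 5)], [(2, 4), (3, 5)],
  [(0, 3), (1, 3), (2, 5), (4, 5)], [(0, 3), (1, 2), (3, 4), (4, 5)],
  [(0, 4), (1, 2), (2, 4), (3, 5)], [(0, 4), (2, 3), (3, 5), (4, 5)],
  [(0, 5), (1, 5), (2, 4), (3, 5)], [(0, 2), (1, 4), (2, 3), (3, 5)],
  [(1, 5), (2, 3), (3, 5), (4, 5)], [(0, 3), (1, 4), (3, 5), (4, 5)],
  [(0, 5), (2, 5), (3, 5), (4, 5)], [(1, 2), (2, 5), (3, 5), (4, 5)],
  [(0, 5), (1, 3), (2, 5), (4, 5)], [(0, 4), (1, 2), (2, 3), (3, 5)],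
  [(0, 1), (2, 5), (3, 5), (4, 5)], [(1, 4), (2, 3), (3, 5), (4, 5)], [(2, 4), (3, 4)],
  [(1, 3), (2, 3)], [(0, 1), (1, 4), (2, 4), (3, 4)], [(0, 5), (1, 3), (2, 4), (4, 5)]]

theorem sixp_K : sixpSpec.K = closeK 10 sixpGens sixpSteps [(idCode 10, 1)] := by decide +kernel

theorem sixp_tbl : sixpSpec.tblOK sixpWords = true := by decide +kernel

theorem sixp_gens : sixpGens.all (fun g => wordOK 10 g.1) = true := by decide +kernel

/-- Seed relations. -/
def sixpSeeds : List (List (ℕ × ℤ)) := [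
  [(0, 2), (1, 1), (2, 3), (3, 4), (4, 2), (5, 3), (8, 2), (10, 3), (12, 3), (16, 2), (17, 3), (18, 3), (22, 2), (24, 3), (25, 3), (26, 2), (28, 2), (31, 2), (32, 4), (33, 4), (34, 4), (35, 2)],
  [(0, 4), (1, 4), (3, 4), (32, 4), (33, 4), (34, 4)],
  [(0, 1), (1, 1), (3, 1), (32, 1), (33, 1), (34, 1)],
  [(0, 1), (12, 1), (13, 1), (17, 1), (24, 1), (25, 1)]]

/-- Images. -/
def sixpJs0 : List (ℕ × ℕ) := [
  (32, 2), (33, 2), (1, 8), (33, 0), (34, 8), (34, 3), (3, 1), (0, 2), (3, 5), (32, 0), (1, 3),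
  (5, 5), (12, 1), (11, 3), (8, 3), (11, 8), (35, 4), (31, 2), (25, 4), (4, 8), (29, 9),
  (29, 4), (2, 2), (14, 2), (22, 5), (16, 3), (14, 0), (10, 5), (17, 0), (26, 8), (30, 1),
  (28, 3), (18, 5), (24, 2), (30, 5)]

theorem sixp_op0 :
    opImgOK sixpSpec 0 eS0 sixpJs0 = true ∧
      eqCoef sixpSpec.N 5 (sixpSeeds.getD 0 []) (opRel sixpSpec 0 eS0 sixpJs0 1) = true := by decide +kernel

/-- Images. -/
def sixpJs1 : List (ℕ × ℕ) := [
  (3, 1), (32, 0), (1, 8), (34, 3), (3, 5), (33, 0), (32, 2), (1, 3), (34, 8), (33, 2), (0, 2),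
  (3, 8), (32, 5), (0, 5), (1, 0), (34, 2), (32, 1), (3, 0), (0, 8), (33, 7), (1, 5), (32, 6),
  (33, 6), (1, 7), (3, 7), (33, 1), (34, 9), (0, 7), (3, 6), (34, 1), (32, 8), (1, 9), (34, 5),
  (33, 4), (0, 4)]

theorem sixp_op1 :
    opImgOK sixpSpec 0 eS5 sixpJs1 = true ∧
      eqCoef sixpSpec.N 5 (sixpSeeds.getD 1 []) (opRel sixpSpec 0 eS5 sixpJs1 1) = true := by decide +kernel

/-- Invariance data. -/
def sixpFix2 : List (List (ℕ × ℕ) × List (ℕ × ℕ) × List Inst) := [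
  ([(0, 1), (1, 2)], [(1, 0), (3, 0), (0, 0), (33, 3), (34, 2), (32, 7)], []),
  ([(0, 1), (1, 2), (2, 3), (3, 4)], [(0, 1), (34, 6), (33, 1), (1, 0), (32, 1), (3, 0)], [])]

theorem sixp_fix2 :
    fixOK sixpSpec 5 [] (sixpSeeds.getD 2 []) sixpFix2 = true ∧
      sixpFix2.map Prod.fst = fA := by decide +kernel

/-- Invariance data. -/
def sixpFix3 : List (List (ℕ × ℕ) × List (ℕ × ℕ) × List Inst) := [
  ([(0, 1), (1, 2), (2, 3), (3, 4)], [(0, 1), (17, 0), (25, 8), (24, 6), (13, 2), (12, 0)], []),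
  ([(0, 5), (1, 4)], [(13, 4), (12, 4), (0, 4), (17, 7), (25, 6), (24, 3)], [])]

theorem sixp_fix3 :
    fixOK sixpSpec 5 [] (sixpSeeds.getD 3 []) sixpFix3 = true ∧
      sixpFix3.map Prod.fst = fT := by decide +kernel

/-- A part of a certificate. -/
def sixpCert0 : List Inst := [
  ⟨[], 2, 4, [(0, 0), (1, 0), (3, 0), (32, 0), (33, 0), (34, 0)]⟩,
  ⟨[(0, 2), (1, 2), (2, 4), (3, 5)], 1, 2, [(10, 0), (14, 0), (20, 0), (17, 9), (22, 9), (16, 3)]⟩,
  ⟨[(0, 1), (2, 3), (3, 4), (4, 5)], 1, 3, [(5, 0), (7, 0), (11, 0), (35, 6), (12, 9), (8, 3)]⟩,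
  ⟨[], 3, 1, [(0, 0), (12, 0), (13, 0), (17, 0), (24, 0), (25, 0)]⟩,
  ⟨[(0, 3), (1, 3), (2, 5), (4, 5)], 1, 3, [(18, 0), (24, 0), (28, 0), (27, 9), (30, 9), (26, 3)]⟩,
  ⟨[(0, 5), (2, 3)], 0, 3, [(13, 9), (21, 1), (29, 7), (23, 3), (4, 5), (14, 4), (16, 9), (11, 2), (17, 3), (8, 1), (12, 6), (30, 7), (7, 2), (24, 5), (25, 8), (26, 8), (27, 0), (6, 4), (15, 7), (9, 9), (19, 3), (20, 8)]⟩,
  ⟨[(1, 5), (2, 3), (3, 4), (4, 5)], 0, 3, [(35, 9), (12, 7), (1, 3), (7, 5), (0, 6), (22, 0), (17, 8), (28, 1), (14, 9), (24, 6), (18, 1), (31, 5), (26, 7), (6, 1), (34, 5), (25, 3), (29, 5), (32, 0), (8, 3), (11, 3), (5, 9), (20, 5)]⟩,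
  ⟨[(0, 3), (1, 2), (2, 5), (4, 5)], 0, 2, [(30, 4), (28, 9), (35, 5), (26, 2), (7, 9), (32, 6), (3, 1), (21, 7), (33, 8), (15, 8), (19, 0), (25, 9), (9, 7), (31, 8), (5, 5), (29, 0), (4, 7), (11, 0), (18, 2), (27, 9), (24, 4), (0, 9)]⟩,
  ⟨[(0, 2), (1, 5), (2, 4), (3, 5)], 0, 4, [(17, 4), (16, 5), (32, 7), (14, 1), (1, 9), (28, 2), (26, 1), (6, 7), (24, 2), (4, 8), (25, 3), (19, 8), (2, 8), (13, 8), (0, 5), (21, 3), (9, 8), (3, 0), (22, 9), (10, 2), (20, 7), (30, 9)]⟩,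
  ⟨[(0, 2), (1, 5)], 0, 1, [(25, 3), (2, 9), (1, 1), (31, 2), (32, 2), (15, 6), (23, 8), (20, 8), (13, 7), (22, 3), (17, 4), (18, 2), (16, 6), (24, 4), (0, 6), (27, 7), (30, 2), (3, 2), (4, 2), (29, 1), (6, 4), (9, 1)]⟩,
  ⟨[(0, 2), (1, 5), (2, 3), (4, 5)], 0, 1, [(28, 9), (26, 2), (32, 6), (30, 4), (1, 7), (17, 6), (16, 3), (19, 0), (10, 9), (21, 5), (15, 4), (6, 1), (23, 5), (29, 5), (3, 1), (4, 6), (31, 5), (0, 8), (27, 1), (24, 9), (18, 3), (14, 5)]⟩,
  ⟨[(0, 2), (2, 3)], 0, 1, [(33, 7), (34, 2), (4, 0), (0, 7), (6, 0), (10, 9), (14, 0), (13, 1), (20, 0), (9, 6), (19, 1), (27, 0), (21, 6), (30, 7), (31, 0), (18, 3), (24, 5), (29, 5), (1, 5), (3, 0), (32, 1), (22, 0)]⟩,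
  ⟨[(0, 4), (4, 5)], 0, 4, [(19, 7), (23, 9), (29, 0), (21, 9), (2, 1), (35, 7), (11, 2), (16, 9), (5, 4), (22, 0), (20, 2), (0, 6), (10, 1), (33, 9), (31, 3), (32, 0), (1, 3), (6, 6), (15, 1), (9, 7), (13, 2), (12, 1)]⟩,
  ⟨[(1, 2), (2, 3), (3, 4), (4, 5)], 0, 1, [(2, 0), (4, 0), (5, 1), (6, 0), (8, 0), (10, 0), (16, 0), (18, 0), (22, 0), (26, 0), (27, 0), (0, 9), (30, 0), (32, 0), (11, 6), (1, 0), (34, 0), (7, 2), (31, 2), (29, 9), (25, 3), (17, 1)]⟩,
  ⟨[(0, 5), (1, 4), (3, 5), (4, 5)], 0, 2, [(6, 4), (25, 1), (27, 8), (4, 2), (24, 9), (7, 6), (12, 1), (21, 4), (35, 5), (13, 5), (9, 4), (20, 3), (23, 4), (14, 6), (18, 5), (17, 1), (16, 7), (28, 0), (2, 4), (29, 6), (31, 1), (5, 0)]⟩,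
  ⟨[(0, 1), (1, 2), (2, 3), (3, 4)], 0, 3, [(0, 1), (34, 6), (8, 9), (33, 1), (35, 1), (22, 4), (14, 5), (30, 9), (17, 0), (18, 1), (24, 6), (15, 1), (26, 0), (13, 2), (12, 0), (9, 9), (19, 4), (11, 1), (1, 0), (32, 1), (3, 0), (10, 7)]⟩,
  ⟨[(0, 3), (1, 3), (2, 4), (3, 5)], 0, 2, [(4, 1), (31, 0), (9, 3), (25, 5), (19, 6), (28, 8), (30, 3), (0, 4), (26, 6), (33, 7), (1, 7), (11, 9), (34, 2), (8, 2), (21, 6), (5, 0), (12, 4), (15, 2), (6, 0), (29, 3), (2, 0), (27, 7)]⟩,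
  ⟨[(0, 1), (1, 3), (2, 4), (3, 5)], 0, 4, [(9, 1), (15, 0), (17, 1), (21, 0), (10, 3), (27, 4), (28, 2), (1, 9), (18, 4), (3, 0), (34, 2), (5, 9), (0, 0), (35, 6), (14, 7), (7, 0), (8, 3), (22, 6), (13, 0), (23, 4), (19, 0), (30, 1)]⟩]

/-- A certificate. -/
def sixpCert : List Inst := sixpCert0

theorem sixp_final : finalOK sixpSpec 5 sixpSeeds sixpCert 1 = true := by decide +kernel

/-- The data of the space. -/
def sixmSpec : Spec where
  n := 10
  N := 36
  T := 0x987620143598765320419876542130987653241098761253409876432501987610532498764210359876431520987643201598761052439876421350987601534298763214059876025314987631502498760541239876421503987632541098763210549876025143987631524098760542319876215304987625401398763154029876054312987621504398762541309876154203987625430198761540329876543102987615432098765430219876543210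
  K := [
  (654820258320, 1), (654820000545, 1), (654820057920, -1), (654820049970, 1),
  (654819988020, -1), (654820127745, -1), (654820118595, 1), (654820245795, -1),
  (654820196370, -1), (654820188420, 1)]

/-- Generators of the subgroup. -/
def sixmGens : List (List (ℕ × ℕ) × ℤ) := [
  ([(0, 1), (1, 2), (2, 3), (3, 4)], 1), ([(1, 4), (2, 3)], -1)]

/-- The enumeration of the subgroup. -/
def sixmSteps : List (ℕ × ℕ) := [
  (0, 0), (1, 0), (0, 1), (1, 1), (0, 2), (0, 3), (1, 3), (0, 5), (1, 5)]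

/-- Words for the representatives. -/
def sixmWords : List (List (ℕ × ℕ)) := [
  [], [(0, 1), (1, 2)], [(1, 2), (2, 3), (3, 4), (4, 5)], [(0, 2), (1, 2)],
  [(0, 2), (1, 3), (3, 4), (4, 5)], [(0, 1), (2, 3), (3, 4), (4, 5)],
  [(0, 3), (1, 3), (3, 4), (4, 5)], [(1, 3), (2, 3), (3, 4), (4, 5)],
  [(0, 3), (1, 4), (2, 3), (3, 5)], [(0, 2), (2, 3), (3, 4), (4, 5)],
  [(0, 2), (1, 2), (2, 4), (3, 5)], [(0, 3), (2, 3), (3, 4), (4, 5)],
  [(0, 4), (1, 4), (2, 3), (3, 5)], [(0, 1), (1, 3), (3, 4), (4, 5)], [(1, 4), (3, 5)],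
  [(0, 3), (1, 4), (2, 4), (3, 5)], [(0, 4), (1, 5), (2, 4), (3, 5)], [(2, 4), (3, 5)],
  [(0, 3), (1, 3), (2, 5), (4, 5)], [(0, 3), (1, 2), (3, 4), (4, 5)],
  [(0, 4), (1, 2), (2, 4), (3, 5)], [(0, 4), (2, 3), (3, 5), (4, 5)],
  [(0, 5), (1, 5), (2, 4), (3, 5)], [(0, 2), (1, 4), (2, 3), (3, 5)],
  [(1, 5), (2, 3), (3, 5), (4, 5)], [(0, 3), (1, 4), (3, 5), (4, 5)],
  [(0, 5), (2, 5), (3, 5), (4, 5)], [(1, 2), (2, 5), (3, 5), (4, 5)],
  [(0, 5), (1, 3), (2, 5), (4, 5)], [(0, 4), (1, 2), (2, 3), (3, 5)],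
  [(0, 1), (2, 5), (3, 5), (4, 5)], [(1, 4), (2, 3), (3, 5), (4, 5)], [(2, 4), (3, 4)],
  [(1, 3), (2, 3)], [(0, 1), (1, 4), (2, 4), (3, 4)], [(0, 5), (1, 3), (2, 4), (4, 5)]]

theorem sixm_K : sixmSpec.K = closeK 10 sixmGens sixmSteps [(idCode 10, 1)] := by decide +kernel

theorem sixm_tbl : sixmSpec.tblOK sixmWords = true := by decide +kernel

theorem sixm_gens : sixmGens.all (fun g => wordOK 10 g.1) = true := by decide +kernel

/-- Seed relations. -/
def sixmSeeds : List (List (ℕ × ℤ)) := [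
  [(0, 4)]]

/-- Images. -/
def sixmJs0 : List (ℕ × ℕ) := [
  (3, 1), (32, 0), (1, 8), (34, 3), (3, 5), (33, 0), (32, 2), (1, 3), (34, 8), (33, 2), (0, 2),
  (3, 8), (32, 5), (0, 5), (1, 0), (34, 2), (32, 1), (3, 0), (0, 8), (33, 7), (1, 5), (32, 6),
  (33, 6), (1, 7), (3, 7), (33, 1), (34, 9), (0, 7), (3, 6), (34, 1), (32, 8), (1, 9), (34, 5),
  (33, 4), (0, 4)]

theorem sixm_op0 :
    opImgOK sixmSpec 0 eS5 sixmJs0 = true ∧
      eqCoef sixmSpec.N 5 (sixmSeeds.getD 0 []) (opRel sixmSpec 0 eS5 sixmJs0 1) = true := by decide +kernel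

/-- A part of a certificate. -/
def sixmCert0 : List Inst := [
  ⟨[(0, 3), (1, 2)], 0, 1, [(0, 7)]⟩]

/-- A certificate. -/
def sixmCert : List Inst := sixmCert0

theorem sixm_final : finalOK sixmSpec 5 sixmSeeds sixmCert 1 = true := by decide +kernel

/-- The data of the space. -/
def trSpec : Spec where
  n := 10
  N := 30
  T := 0x987610245398764305129876503124987640153298760214539876432501987603142598765321049876402513987643152098763054219876015342987632140598760253149876054123987642150398763254109876054231987621530498762540139876315402987621504398762541309876154203987625430198761540329876543102987615432098765430219876543210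
  K := [
  (654820258320, 1), (654820254465, 1), (654815810610, 1), (654815806755, 1), (654814827555, 1),
  (654818021460, 1), (654814823730, 1), (654818017605, 1), (654817038405, 1), (654817034580, 1),
  (654819275265, 1), (654819271440, 1)]

/-- Generators of the subgroup. -/
def trGens : List (List (ℕ × ℕ) × ℤ) := [
  ([(0, 1), (2, 3)], 1), ([(0, 2), (1, 3), (2, 4), (3, 5)], 1)]

/-- The enumeration of the subgroup. -/
def trSteps : List (ℕ × ℕ) := [
  (0, 0), (1, 0), (1, 1), (0, 2), (1, 2), (0, 3), (1, 3), (1, 4), (0, 5), (1, 8), (1, 9)]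

/-- Words for the representatives. -/
def trWords : List (List (ℕ × ℕ)) := [
  [], [(0, 1), (1, 2)], [(1, 2), (2, 3), (3, 4), (4, 5)], [(0, 2), (1, 2)],
  [(0, 2), (1, 3), (3, 4), (4, 5)], [(0, 1), (2, 3), (3, 4), (4, 5)],
  [(0, 3), (1, 3), (3, 4), (4, 5)], [(1, 3), (2, 3), (3, 4), (4, 5)],
  [(0, 3), (1, 4), (2, 3), (3, 5)], [(0, 2), (1, 2), (2, 4), (3, 5)],
  [(0, 3), (2, 3), (3, 4), (4, 5)], [(0, 4), (1, 4), (2, 3), (3, 5)],
  [(0, 1), (1, 3), (3, 4), (4, 5)], [(2, 4), (3, 5)], [(0, 3), (1, 3), (2, 5), (4, 5)],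
  [(0, 3), (1, 2), (3, 4), (4, 5)], [(0, 4), (2, 3), (3, 5), (4, 5)],
  [(0, 5), (1, 5), (2, 4), (3, 5)], [(0, 2), (1, 4), (2, 3), (3, 5)],
  [(0, 1), (1, 2), (2, 4), (3, 5)], [(1, 2), (2, 5), (3, 5), (4, 5)],
  [(0, 3), (2, 5), (3, 5), (4, 5)], [(0, 4), (1, 4), (2, 4), (3, 4)],
  [(0, 5), (1, 2), (2, 4), (3, 4)], [(0, 1), (2, 5), (3, 5), (4, 5)],
  [(0, 3), (1, 5), (2, 4), (3, 5)], [(0, 2), (1, 3), (2, 5), (4, 5)], [(0, 4), (1, 2)],
  [(0, 2), (2, 5), (3, 5), (4, 5)], [(0, 3), (1, 5), (2, 4), (3, 4)]]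

theorem tr_K : trSpec.K = closeK 10 trGens trSteps [(idCode 10, 1)] := by decide +kernel

theorem tr_tbl : trSpec.tblOK trWords = true := by decide +kernel

theorem tr_gens : trGens.all (fun g => wordOK 10 g.1) = true := by decide +kernel

/-- Seed relations. -/
def trSeeds : List (List (ℕ × ℤ)) := [
  [(1, 1), (15, 1), (18, 1), (20, 1), (21, 1)], [(2, 1), (10, 1), (17, 1), (19, 1), (29, 1)],
  [(0, 1), (1, 1), (3, 1), (9, 1), (13, 1), (19, 1)],
  [(2, 1), (4, 1), (5, 1), (6, 1), (7, 1), (8, 1), (10, 1), (11, 1), (12, 1), (15, 1), (16, 1), (18, 1)]]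

/-- Invariance data. -/
def trFix0 : List (List (ℕ × ℕ) × List (ℕ × ℕ) × List Inst) := [
  ([(0, 1), (1, 2), (2, 3), (3, 4)], [(15, 10), (20, 7), (1, 4), (21, 10), (18, 1)], []),
  ([(0, 5), (1, 4)], [(18, 1), (15, 11), (1, 1), (21, 2), (20, 5)], [])]

theorem tr_fix0 :
    fixOK trSpec 5 [] (trSeeds.getD 0 []) trFix0 = true ∧
      trFix0.map Prod.fst = fT := by decide +kernel

/-- Invariance data. -/
def trFix1 : List (List (ℕ × ℕ) × List (ℕ × ℕ) × List Inst) := [
  ([(0, 1), (1, 2), (2, 3), (3, 4)], [(10, 1), (29, 6), (2, 5), (17, 9), (19, 2)], []),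
  ([(0, 5), (1, 4)], [(10, 5), (2, 2), (17, 1), (29, 6), (19, 8)], [])]

theorem tr_fix1 :
    fixOK trSpec 5 [] (trSeeds.getD 1 []) trFix1 = true ∧
      trFix1.map Prod.fst = fT := by decide +kernel

/-- Invariance data. -/
def trFix2 : List (List (ℕ × ℕ) × List (ℕ × ℕ) × List Inst) := [
  ([(0, 1), (1, 2)], [(1, 0), (3, 0), (0, 0), (13, 0), (19, 0), (9, 0)], []),
  ([(1, 2), (2, 3)], [(3, 1), (13, 5), (19, 7), (1, 4), (9, 10), (0, 2)], [])]

theorem tr_fix2 :
    fixOK trSpec 5 [] (trSeeds.getD 2 []) trFix2 = true ∧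
      trFix2.map Prod.fst = fN := by decide +kernel

/-- Invariance data. -/
def trFix3 : List (List (ℕ × ℕ) × List (ℕ × ℕ) × List Inst) := [
  ([(0, 1), (1, 2)], [(5, 0), (7, 0), (8, 8), (10, 0), (12, 0), (2, 6), (15, 0), (16, 0), (4, 0), (6, 0), (18, 10), (11, 10)], []),
  ([(1, 2), (2, 3)], [(7, 0), (10, 0), (16, 9), (5, 0), (18, 8), (15, 6), (11, 9), (4, 3), (8, 8), (12, 0), (6, 3), (2, 6)], [])]

theorem tr_fix3 :
    fixOK trSpec 5 [] (trSeeds.getD 3 []) trFix3 = true ∧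
      trFix3.map Prod.fst = fN := by decide +kernel

/-- A part of a certificate. -/
def trCert0 : List Inst := [
  ⟨[(0, 3), (1, 3), (3, 4), (4, 5)], 0, 4, [(2, 0), (12, 3), (23, 10), (13, 7), (22, 0)]⟩,
  ⟨[(0, 2), (1, 2)], 1, 4, [(8, 8), (6, 0), (21, 6), (13, 0), (25, 0)]⟩,
  ⟨[(0, 2), (1, 4), (2, 5), (3, 4)], 2, 1, [(6, 2), (1, 9), (23, 0), (7, 9), (14, 5), (19, 6)]⟩,
  ⟨[(0, 1), (2, 3), (3, 4), (4, 5)], 2, 4, [(5, 0), (7, 0), (10, 0), (21, 0), (24, 0), (23, 8)]⟩,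
  ⟨[], 2, 4, [(0, 0), (1, 0), (3, 0), (9, 0), (13, 0), (19, 0)]⟩,
  ⟨[(1, 4), (2, 5), (3, 4), (4, 5)], 3, 1, [(8, 2), (2, 5), (22, 0), (24, 0), (18, 7), (1, 0), (25, 3), (3, 0), (7, 4), (14, 3), (27, 10), (10, 9)]⟩,
  ⟨[(1, 4), (2, 5), (3, 5), (4, 5)], 3, 4, [(15, 7), (7, 5), (26, 8), (25, 9), (2, 11), (13, 5), (14, 9), (19, 7), (18, 1), (24, 3), (28, 5), (11, 3)]⟩,
  ⟨[(0, 1), (2, 3), (3, 4), (4, 5)], 3, 4, [(3, 2), (2, 6), (13, 0), (16, 0), (15, 6), (1, 5), (4, 3), (14, 6), (11, 10), (8, 10), (27, 8), (29, 0)]⟩,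
  ⟨[(0, 1), (1, 4), (2, 5), (3, 5)], 3, 1, [(2, 7), (5, 5), (25, 2), (28, 0), (11, 5), (3, 0), (29, 3), (0, 0), (12, 4), (21, 3), (26, 5), (15, 9)]⟩,
  ⟨[(0, 3), (1, 3), (2, 5), (4, 5)], 3, 1, [(11, 2), (4, 9), (19, 5), (21, 10), (9, 7), (8, 5), (0, 1), (15, 10), (24, 10), (2, 8), (16, 9), (23, 11)]⟩]

/-- A certificate. -/
def trCert : List Inst := trCert0

theorem tr_final : finalOK trSpec 5 trSeeds trCert 1 = true := by decide +kernel

/-- The data of the space. -/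
def fourSpec : Spec where
  n := 10
  N := 15
  T := 0x987653204198765310249876530421987652143098765204139876524310987651423098765042139876510432987651430298765041329876543102987650432198765430219876543210
  K := [
  (654820258320, 1), (654820254465, 1), (654820249650, 1), (654820245795, 1)]

/-- Generators of the subgroup. -/
def fourGens : List (List (ℕ × ℕ) × ℤ) := [
  ([(0, 1), (2, 3)], 1), ([(0, 2), (1, 3)], 1)]

/-- The enumeration of the subgroup. -/
def fourSteps : List (ℕ × ℕ) := [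
  (0, 0), (1, 0), (1, 1)]

/-- Words for the representatives. -/
def fourWords : List (List (ℕ × ℕ)) := [
  [], [(0, 1), (1, 2)], [(0, 1), (1, 2), (2, 3), (3, 4)], [(0, 2), (1, 2)],
  [(0, 2), (1, 3), (2, 3), (3, 4)], [(0, 2), (1, 2), (2, 3), (3, 4)],
  [(0, 2), (1, 3), (2, 4), (3, 4)], [(0, 3), (3, 4)], [(1, 3), (3, 4)], [(2, 3), (3, 4)],
  [(0, 3), (2, 4)], [(1, 3), (2, 4)], [(0, 1), (1, 2), (2, 4), (3, 4)],
  [(0, 4), (1, 2), (2, 4), (3, 4)], [(0, 1), (1, 4), (2, 4), (3, 4)]]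

theorem four_K : fourSpec.K = closeK 10 fourGens fourSteps [(idCode 10, 1)] := by decide +kernel

theorem four_tbl : fourSpec.tblOK fourWords = true := by decide +kernel

theorem four_gens : fourGens.all (fun g => wordOK 10 g.1) = true := by decide +kernel

/-- Seed relations. -/
def fourSeeds : List (List (ℕ × ℤ)) := [
  [(0, 4), (1, 3), (3, 3)], [(0, 1), (1, 1), (3, 1)]]

/-- Images. -/
def fourJs0 : List (ℕ × ℕ) := [
  (9, 0), (13, 2), (14, 2), (3, 1), (5, 1), (1, 2), (8, 0), (11, 0), (10, 3), (12, 3), (6, 3),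
  (13, 3), (0, 1), (9, 1), (1, 0), (3, 2), (4, 2), (3, 0), (12, 1), (1, 1), (2, 1), (0, 2),
  (8, 2), (1, 3), (3, 3), (7, 0), (10, 0), (0, 3), (5, 2), (6, 2), (11, 2), (14, 1), (4, 3),
  (7, 3), (2, 3)]

theorem four_op0 :
    opImgOK fourSpec 0 eA fourJs0 = true ∧
      eqCoef fourSpec.N 5 (fourSeeds.getD 0 []) (opRel fourSpec 0 eA fourJs0 0) = true := by decide +kernel

/-- Invariance data. -/
def fourFix1 : List (List (ℕ × ℕ) × List (ℕ × ℕ) × List Inst) := [
  ([(0, 1), (1, 2)], [(1, 0), (3, 0), (0, 0)], []),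
  ([(1, 2), (2, 3)], [(3, 1), (0, 2), (1, 3)], [])]

theorem four_fix1 :
    fixOK fourSpec 5 [] (fourSeeds.getD 1 []) fourFix1 = true ∧
      fourFix1.map Prod.fst = fN := by decide +kernel

/-- A part of a certificate. -/
def fourCert0 : List Inst := [
  ⟨[], 0, 1, [(0, 0), (1, 0), (3, 0)]⟩, ⟨[], 1, 2, [(0, 0), (1, 0), (3, 0)]⟩]

/-- A certificate. -/
def fourCert : List Inst := fourCert0

theorem four_final : finalOK fourSpec 5 fourSeeds fourCert 1 = true := by decide +kernel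

/-- The data of the space. -/
def fivepSpec : Spec where
  n := 10
  N := 6
  T := 0x987651423098765042139876504132987654310298765430219876543210
  K := [
  (654820258320, 1), (654820000545, 1), (654820057920, 1), (654820049970, 1), (654819988020, 1),
  (654820127745, 1), (654820118595, 1), (654820245795, 1), (654820196370, 1), (654820188420, 1)]

/-- Generators of the subgroup. -/
def fivepGens : List (List (ℕ × ℕ) × ℤ) := [
  ([(0, 1), (1, 2), (2, 3), (3, 4)], 1), ([(1, 4), (2, 3)], 1)]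

/-- The enumeration of the subgroup. -/
def fivepSteps : List (ℕ × ℕ) := [
  (0, 0), (1, 0), (0, 1), (1, 1), (0, 2), (0, 3), (1, 3), (0, 5), (1, 5)]

/-- Words for the representatives. -/
def fivepWords : List (List (ℕ × ℕ)) := [
  [], [(0, 1), (1, 2)], [(0, 2), (1, 2)], [(0, 2), (1, 3), (2, 3), (3, 4)], [(0, 3), (3, 4)],
  [(1, 3), (3, 4)]]

theorem fivep_K : fivepSpec.K = closeK 10 fivepGens fivepSteps [(idCode 10, 1)] := by decide +kernel

theorem fivep_tbl : fivepSpec.tblOK fivepWords = true := by decide +kernel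

theorem fivep_gens : fivepGens.all (fun g => wordOK 10 g.1) = true := by decide +kernel

/-- Seed relations. -/
def fivepSeeds : List (List (ℕ × ℤ)) := [
  [(0, 1), (5, 1)]]

/-- Invariance data. -/
def fivepFix0 : List (List (ℕ × ℕ) × List (ℕ × ℕ) × List Inst) := [
  ([(0, 1), (2, 3)], [(5, 9), (0, 1)], []), ([(0, 2), (1, 3)], [(5, 8), (0, 8)], [])]

theorem fivep_fix0 :
    fixOK fivepSpec 5 [] (fivepSeeds.getD 0 []) fivepFix0 = true ∧
      fivepFix0.map Prod.fst = fE := by decide +kernel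

/-- A part of a certificate. -/
def fivepCert0 : List Inst := [
  ⟨[], 0, 3, [(0, 0), (5, 0)]⟩, ⟨[(1, 3), (3, 4)], 0, 2, [(5, 0), (4, 4)]⟩,
  ⟨[(0, 1), (1, 2), (2, 4), (3, 4)], 0, 3, [(4, 1), (0, 5)]⟩]

/-- A certificate. -/
def fivepCert : List Inst := fivepCert0

theorem fivep_final : finalOK fivepSpec 5 fivepSeeds fivepCert 1 = true := by decide +kernel

/-- The data of the space. -/
def fivemSpec : Spec where
  n := 10
  N := 6
  T := 0x987651423098765042139876504132987654310298765430219876543210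
  K := [
  (654820258320, 1), (654820000545, 1), (654820057920, -1), (654820049970, 1),
  (654819988020, -1), (654820127745, -1), (654820118595, 1), (654820245795, -1),
  (654820196370, -1), (654820188420, 1)]

/-- Generators of the subgroup. -/
def fivemGens : List (List (ℕ × ℕ) × ℤ) := [
  ([(0, 1), (1, 2), (2, 3), (3, 4)], 1), ([(1, 4), (2, 3)], -1)]

/-- The enumeration of the subgroup. -/
def fivemSteps : List (ℕ × ℕ) := [
  (0, 0), (1, 0), (0, 1), (1, 1), (0, 2), (0, 3), (1, 3), (0, 5), (1, 5)]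

/-- Words for the representatives. -/
def fivemWords : List (List (ℕ × ℕ)) := [
  [], [(0, 1), (1, 2)], [(0, 2), (1, 2)], [(0, 2), (1, 3), (2, 3), (3, 4)], [(0, 3), (3, 4)],
  [(1, 3), (3, 4)]]

theorem fivem_K : fivemSpec.K = closeK 10 fivemGens fivemSteps [(idCode 10, 1)] := by decide +kernel

theorem fivem_tbl : fivemSpec.tblOK fivemWords = true := by decide +kernel

theorem fivem_gens : fivemGens.all (fun g => wordOK 10 g.1) = true := by decide +kernel

/-- Seed relations. -/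
def fivemSeeds : List (List (ℕ × ℤ)) := [
  [(0, 4)]]

/-- Images. -/
def fivemJs0 : List (ℕ × ℕ) := [
  (2, 1), (5, 2), (1, 8), (3, 9), (2, 5), (4, 9), (5, 0), (1, 3), (3, 4), (4, 4), (0, 2),
  (2, 8), (5, 9), (0, 5), (1, 0), (3, 8), (5, 4), (2, 0), (0, 8), (4, 8), (1, 5), (5, 8),
  (4, 3), (1, 7), (2, 7), (4, 0), (3, 1), (0, 7), (2, 6), (3, 6), (5, 6), (1, 9), (3, 7),
  (4, 7), (0, 4)]

theorem fivem_op0 :
    opImgOK fivemSpec 0 eA fivemJs0 = true ∧
      eqCoef fivemSpec.N 5 (fivemSeeds.getD 0 []) (opRel fivemSpec 0 eA fivemJs0 1) = true := by decide +kernel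

/-- A part of a certificate. -/
def fivemCert0 : List Inst := [
  ⟨[], 0, 4, [(0, 0)]⟩]

/-- A certificate. -/
def fivemCert : List Inst := fivemCert0

theorem fivem_final : finalOK fivemSpec 5 fivemSeeds fivemCert 1 = true := by decide +kernel

end Cfsg.Agent.Solv.AltSec.Five
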