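import Cfsg.Agent.Lib.Solv.AltSec.Five.DataOps

/-!
Certificate data in characteristic five.
-/

set_option autoImplicit false

namespace Cfsg.Agent.Solv.AltSec.Five

/-- An element of the group ring. -/
def pNW : List (List (ℕ × ℕ) × ℤ) := [
  ([], 4), ([(0, 1), (2, 3)], 4), ([(0, 2), (1, 3)], 4), ([(0, 3), (1, 2)], 4)]

/-- An element of the group ring. -/
def pN : List (ℕ × ℤ) := ofWords 10 pNW

theorem pN_evn : Evns 10 pN := evns_ofWords (by norm_num) (by decide +kernel)

/-- An element of the group ring. -/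
def dNW : List (List (ℕ × ℕ) × ℤ) := [
  ([], 4), ([(0, 1), (2, 3)], 4), ([(0, 2), (1, 3)], 1), ([(0, 3), (1, 2)], 1)]

/-- An element of the group ring. -/
def dN : List (ℕ × ℤ) := ofWords 10 dNW

theorem dN_evn : Evns 10 dN := evns_ofWords (by norm_num) (by decide +kernel)

/-- An element of the group ring. -/
def pTW : List (List (ℕ × ℕ) × ℤ) := [
  ([], 4), ([(0, 1), (2, 3)], 4), ([(0, 1), (4, 5)], 4), ([(2, 3), (4, 5)], 4)]

/-- An element of the group ring. -/
def pT : List (ℕ × ℤ) := ofWords 10 pTW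

theorem pT_evn : Evns 10 pT := evns_ofWords (by norm_num) (by decide +kernel)

/-- An element of the group ring. -/
def dTW : List (List (ℕ × ℕ) × ℤ) := [
  ([], 4), ([(0, 1), (2, 3)], 4), ([(0, 1), (4, 5)], 1), ([(2, 3), (4, 5)], 1)]

/-- An element of the group ring. -/
def dT : List (ℕ × ℤ) := ofWords 10 dTW

theorem dT_evn : Evns 10 dT := evns_ofWords (by norm_num) (by decide +kernel)

/-- An element of the group ring. -/
def pXW : List (List (ℕ × ℕ) × ℤ) := [
  ([], 1), ([(6, 7), (8, 9)], 1), ([(6, 8), (7, 9)], 1), ([(6, 9), (7, 8)], 1),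
  ([(0, 1), (2, 3)], 1), ([(0, 1), (2, 3), (6, 7), (8, 9)], 1),
  ([(0, 1), (2, 3), (6, 8), (7, 9)], 1), ([(0, 1), (2, 3), (6, 9), (7, 8)], 1),
  ([(0, 2), (1, 3)], 1), ([(0, 2), (1, 3), (6, 7), (8, 9)], 1),
  ([(0, 2), (1, 3), (6, 8), (7, 9)], 1), ([(0, 2), (1, 3), (6, 9), (7, 8)], 1),
  ([(0, 3), (1, 2)], 1), ([(0, 3), (1, 2), (6, 7), (8, 9)], 1),
  ([(0, 3), (1, 2), (6, 8), (7, 9)], 1), ([(0, 3), (1, 2), (6, 9), (7, 8)], 1)]

/-- An element of the group ring. -/
def pX : List (ℕ × ℤ) := ofWords 10 pXW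

theorem pX_evn : Evns 10 pX := evns_ofWords (by norm_num) (by decide +kernel)

/-- An element of the group ring. -/
def dXW : List (List (ℕ × ℕ) × ℤ) := [
  ([(6, 7), (8, 9)], 1), ([(6, 8), (7, 9)], 4), ([(6, 9), (7, 8)], 4),
  ([(0, 1), (2, 3), (6, 7), (8, 9)], 1), ([(0, 1), (2, 3), (6, 8), (7, 9)], 4),
  ([(0, 1), (2, 3), (6, 9), (7, 8)], 4), ([(0, 2), (1, 3)], 2),
  ([(0, 2), (1, 3), (6, 7), (8, 9)], 1), ([(0, 2), (1, 3), (6, 8), (7, 9)], 4),
  ([(0, 2), (1, 3), (6, 9), (7, 8)], 4), ([(0, 3), (1, 2)], 2),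
  ([(0, 3), (1, 2), (6, 7), (8, 9)], 1), ([(0, 3), (1, 2), (6, 8), (7, 9)], 4),
  ([(0, 3), (1, 2), (6, 9), (7, 8)], 4)]

/-- An element of the group ring. -/
def dX : List (ℕ × ℤ) := ofWords 10 dXW

theorem dX_evn : Evns 10 dX := evns_ofWords (by norm_num) (by decide +kernel)

/-- An element of the group ring. -/
def sumFW : List (List (ℕ × ℕ) × ℤ) := [
  ([(7, 8), (8, 9)], 1), ([], 1), ([(6, 7), (7, 8)], 1), ([(6, 8), (7, 9)], 1),
  ([(6, 8), (7, 8)], 1), ([(7, 9), (8, 9)], 1), ([(6, 9), (7, 9)], 1), ([(6, 8), (8, 9)], 1),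
  ([(6, 7), (7, 9)], 1), ([(6, 7), (8, 9)], 1), ([(6, 9), (7, 8)], 1), ([(6, 9), (8, 9)], 1)]

/-- An element of the group ring. -/
def sumF : List (ℕ × ℤ) := ofWords 10 sumFW

theorem sumF_evn : Evns 10 sumF := evns_ofWords (by norm_num) (by decide +kernel)

/-- Generators. -/
def fF : List (List (ℕ × ℕ)) := [[(6, 7), (7, 8)], [(7, 8), (8, 9)]]

/-- Generators. -/
def fEF : List (List (ℕ × ℕ)) := [[(6, 7), (8, 9)], [(6, 8), (7, 9)]]

/-- Generators. -/
def fN2 : List (List (ℕ × ℕ)) := [[(0, 1), (2, 3)], [(0, 2), (1, 3), (2, 4), (3, 5)]]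

/-- Generators. -/
def fET : List (List (ℕ × ℕ)) := [[(0, 1), (2, 3)], [(0, 1), (4, 5)]]

/-- A permutation. -/
def sDiag : List (ℕ × ℕ) := [(1, 6), (2, 6), (3, 7), (4, 6), (5, 8), (6, 7)]

/-- A permutation. -/
def sAB : List (ℕ × ℕ) := [(0, 7), (1, 6), (2, 8), (3, 9), (4, 5), (6, 7)]

/-- A permutation. -/
def sTF : List (ℕ × ℕ) := [(0, 6), (1, 7), (2, 8), (3, 9)]

/-- A permutation. -/
def zN : List (ℕ × ℕ) := [(0, 1), (1, 2)]

/-- A permutation. -/
def zT : List (ℕ × ℕ) := [(0, 2), (1, 3), (2, 4), (3, 5)]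

/-- A permutation. -/
def zX : List (ℕ × ℕ) := [(0, 1), (1, 2), (6, 7), (7, 8)]

/-- A permutation. -/
def tN : List (ℕ × ℕ) := [(0, 1), (2, 3)]

/-- Keys. -/
def keysN : List ℕ := [
  654820258320, 654820250400, 654820254000, 654820254465, 654820257825, 654820246065,
  654820258050, 654820246290, 654820249650, 654820250115, 654820253715, 654820245795]

theorem decompN : decompOK 10 5 true zN tN pN dN keysN = true := by decide +kernel

/-- Keys. -/
def keysT : List ℕ := [
  654820258320, 654819271440, 654819275265, 654820254465, 654815810610, 654814823730,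
  654814827555, 654815806755, 654818021460, 654817034580, 654817038405, 654818017605]

theorem decompT : decompOK 10 5 true zT tN pT dT keysT = true := by decide +kernel

/-- Keys. -/
def keysX : List ℕ := [
  654820258320, 590144090640, 509361795600, 444685627920, 521944699680, 449215468320,
  650290402080, 577561170720, 582342680880, 646515532080, 452990345520, 517163196720,
  654820254465, 590144086785, 509361791745, 444685624065, 582342684705, 646515535905,
  452990349345, 517163200545, 521944695345, 449215463985, 650290397745, 577561166385,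
  521944707330, 449215475970, 650290409730, 577561178370, 582342673170, 646515524370,
  452990337810, 517163189010, 654820249650, 590144081970, 509361786930, 444685619250,
  582342676995, 646515528195, 452990341635, 517163192835, 521944702995, 449215471635,
  650290405395, 577561174035, 654820245795, 590144078115, 509361783075, 444685615395]

theorem decompX : decompOK 10 5 false zX tN pX dX keysX = true := by decide +kernel

end Cfsg.Agent.Solv.AltSec.Five
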