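import Cfsg.Agent.Lib.Solv.AltSec.Decomp

/-!
Certificate data in characteristic five.
-/

set_option autoImplicit false

namespace Cfsg.Agent.Solv.AltSec.Five

/-- Generators. -/
def fA : List (List (ℕ × ℕ)) := [
  [(0, 1), (1, 2)], [(0, 1), (1, 2), (2, 3), (3, 4)]]

/-- The generators are commutators. -/
def fAComm : List (List ℕ × List ℕ × List ℕ × List ℕ) := [
  ([0, 0], [1, 1, 0, 0, 1, 0, 1], [0], [1, 1, 0, 0, 1, 0, 1]),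
  ([0], [0, 1, 0, 1], [0, 0], [1, 0, 1, 0, 0])]

theorem fA_comm : commOK 10 fA fAComm = true := by decide +kernel

/-- Generators. -/
def fB : List (List (ℕ × ℕ)) := [
  [(5, 6), (6, 7)], [(5, 6), (6, 7), (7, 8), (8, 9)]]

/-- The generators are commutators. -/
def fBComm : List (List ℕ × List ℕ × List ℕ × List ℕ) := [
  ([0, 0], [1, 1, 0, 0, 1, 0, 1], [0], [1, 1, 0, 0, 1, 0, 1]),
  ([0], [0, 1, 0, 1], [0, 0], [1, 0, 1, 0, 0])]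

theorem fB_comm : commOK 10 fB fBComm = true := by decide +kernel

/-- Generators. -/
def fD0 : List (List (ℕ × ℕ)) := [
  [(0, 1), (1, 2), (5, 6), (6, 7)],
  [(0, 1), (1, 2), (2, 3), (3, 4), (5, 6), (6, 7), (7, 8), (8, 9)]]

/-- The generators are commutators. -/
def fD0Comm : List (List ℕ × List ℕ × List ℕ × List ℕ) := [
  ([0, 0], [1, 1, 0, 0, 1, 0, 1], [0], [1, 1, 0, 0, 1, 0, 1]),
  ([0], [0, 1, 0, 1], [0, 0], [1, 0, 1, 0, 0])]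

theorem fD0_comm : commOK 10 fD0 fD0Comm = true := by decide +kernel

/-- Generators. -/
def fD1 : List (List (ℕ × ℕ)) := [
  [(0, 1), (1, 2), (5, 7), (6, 7)],
  [(0, 1), (1, 2), (2, 3), (3, 4), (5, 7), (6, 7), (7, 8), (8, 9)]]

/-- The generators are commutators. -/
def fD1Comm : List (List ℕ × List ℕ × List ℕ × List ℕ) := [
  ([0, 0], [1, 1, 0, 0, 1, 0, 1], [0], [1, 1, 0, 0, 1, 0, 1]),
  ([0], [0, 1, 0, 1], [0, 0], [1, 0, 1, 0, 0])]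

theorem fD1_comm : commOK 10 fD1 fD1Comm = true := by decide +kernel

/-- Generators. -/
def fT : List (List (ℕ × ℕ)) := [
  [(0, 1), (1, 2), (2, 3), (3, 4)], [(0, 5), (1, 4)]]

/-- The generators are commutators. -/
def fTComm : List (List ℕ × List ℕ × List ℕ × List ℕ) := [
  ([0, 0, 0], [1, 0, 0, 1, 0, 0, 0, 1], [0, 0], [1, 0, 0, 1, 0, 0, 0, 1]),
  ([0, 1, 0, 0, 0], [1, 0, 0, 0, 1, 0], [0, 0, 0, 1, 0, 1], [1, 0, 1, 0, 0, 0, 1])]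

theorem fT_comm : commOK 10 fT fTComm = true := by decide +kernel

/-- Generators. -/
def fN : List (List (ℕ × ℕ)) := [
  [(0, 1), (1, 2)], [(1, 2), (2, 3)]]

/-- Generators. -/
def fE : List (List (ℕ × ℕ)) := [
  [(0, 1), (2, 3)], [(0, 2), (1, 3)]]

/-- An element of the group ring. -/
def eAW : List (List (ℕ × ℕ) × ℤ) := [
  ([(2, 3), (3, 4)], -3), ([(2, 4), (3, 4)], -3), ([(1, 2), (3, 4)], 3), ([(1, 2), (2, 3)], -3),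
  ([(1, 2), (2, 4)], -3), ([(1, 3), (2, 3)], -3), ([(1, 3), (3, 4)], -3), ([(1, 3), (2, 4)], 3),
  ([(1, 4), (2, 4)], -3), ([(1, 4), (3, 4)], -3), ([(1, 4), (2, 3)], 3), ([(0, 1), (3, 4)], 3),
  ([(0, 1), (2, 3)], 3), ([(0, 1), (2, 4)], 3), ([(0, 1), (1, 2)], -3), ([(0, 1), (1, 3)], -3),
  ([(0, 1), (1, 4)], -3), ([(0, 2), (1, 2)], -3), ([(0, 2), (3, 4)], 3), ([(0, 2), (2, 3)], -3),
  ([(0, 2), (2, 4)], -3), ([(0, 2), (1, 3)], 3), ([(0, 2), (1, 4)], 3), ([(0, 3), (1, 3)], -3),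
  ([(0, 3), (2, 3)], -3), ([(0, 3), (3, 4)], -3), ([(0, 3), (2, 4)], 3), ([(0, 3), (1, 2)], 3),
  ([(0, 3), (1, 4)], 3), ([(0, 4), (1, 4)], -3), ([(0, 4), (2, 4)], -3), ([(0, 4), (3, 4)], -3),
  ([(0, 4), (2, 3)], 3), ([(0, 4), (1, 2)], 3), ([(0, 4), (1, 3)], 3)]

/-- An element of the group ring. -/
def eA : List (ℕ × ℤ) := ofWords 10 eAW

theorem eA_evn : Evns 10 eA := evns_ofWords (by norm_num) (by decide +kernel)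

/-- An element of the group ring. -/
def eBW : List (List (ℕ × ℕ) × ℤ) := [
  ([(7, 8), (8, 9)], -3), ([(7, 9), (8, 9)], -3), ([(6, 7), (8, 9)], 3), ([(6, 7), (7, 8)], -3),
  ([(6, 7), (7, 9)], -3), ([(6, 8), (7, 8)], -3), ([(6, 8), (8, 9)], -3), ([(6, 8), (7, 9)], 3),
  ([(6, 9), (7, 9)], -3), ([(6, 9), (8, 9)], -3), ([(6, 9), (7, 8)], 3), ([(5, 6), (8, 9)], 3),
  ([(5, 6), (7, 8)], 3), ([(5, 6), (7, 9)], 3), ([(5, 6), (6, 7)], -3), ([(5, 6), (6, 8)], -3),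
  ([(5, 6), (6, 9)], -3), ([(5, 7), (6, 7)], -3), ([(5, 7), (8, 9)], 3), ([(5, 7), (7, 8)], -3),
  ([(5, 7), (7, 9)], -3), ([(5, 7), (6, 8)], 3), ([(5, 7), (6, 9)], 3), ([(5, 8), (6, 8)], -3),
  ([(5, 8), (7, 8)], -3), ([(5, 8), (8, 9)], -3), ([(5, 8), (7, 9)], 3), ([(5, 8), (6, 7)], 3),
  ([(5, 8), (6, 9)], 3), ([(5, 9), (6, 9)], -3), ([(5, 9), (7, 9)], -3), ([(5, 9), (8, 9)], -3),
  ([(5, 9), (7, 8)], 3), ([(5, 9), (6, 7)], 3), ([(5, 9), (6, 8)], 3)]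

/-- An element of the group ring. -/
def eB : List (ℕ × ℤ) := ofWords 10 eBW

theorem eB_evn : Evns 10 eB := evns_ofWords (by norm_num) (by decide +kernel)

/-- An element of the group ring. -/
def eS0W : List (List (ℕ × ℕ) × ℤ) := [
  ([(1, 3), (3, 4)], -3), ([(1, 4), (3, 4)], -3), ([(1, 2), (3, 4)], 3), ([(1, 3), (2, 3)], -3),
  ([(1, 4), (2, 4)], -3), ([(1, 2), (2, 3)], -3), ([(2, 3), (3, 4)], -3), ([(1, 4), (2, 3)], 3),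
  ([(1, 2), (2, 4)], -3), ([(2, 4), (3, 4)], -3), ([(1, 3), (2, 4)], 3), ([(2, 5), (3, 4)], 3),
  ([(1, 3), (2, 5)], 3), ([(1, 4), (2, 5)], 3), ([(1, 5), (2, 5)], -3), ([(2, 3), (3, 5)], -3),
  ([(2, 4), (4, 5)], -3), ([(1, 2), (2, 5)], -3), ([(1, 5), (3, 4)], 3), ([(1, 3), (3, 5)], -3),
  ([(1, 4), (4, 5)], -3), ([(1, 5), (2, 3)], 3), ([(1, 5), (2, 4)], 3), ([(2, 5), (3, 5)], -3),
  ([(1, 5), (3, 5)], -3), ([(3, 4), (4, 5)], -3), ([(1, 4), (3, 5)], 3), ([(1, 2), (3, 5)], 3),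
  ([(2, 4), (3, 5)], 3), ([(2, 5), (4, 5)], -3), ([(1, 5), (4, 5)], -3), ([(3, 5), (4, 5)], -3),
  ([(1, 3), (4, 5)], 3), ([(1, 2), (4, 5)], 3), ([(2, 3), (4, 5)], 3)]

/-- An element of the group ring. -/
def eS0 : List (ℕ × ℤ) := ofWords 10 eS0W

theorem eS0_evn : Evns 10 eS0 := evns_ofWords (by norm_num) (by decide +kernel)

/-- An element of the group ring. -/
def eT0W : List (List (ℕ × ℕ) × ℤ) := [
  ([(7, 8), (8, 9)], -3), ([(7, 9), (8, 9)], -3), ([(6, 7), (8, 9)], 3), ([(6, 7), (7, 8)], -3),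
  ([(6, 7), (7, 9)], -3), ([(6, 8), (7, 8)], -3), ([(6, 8), (8, 9)], -3), ([(6, 8), (7, 9)], 3),
  ([(6, 9), (7, 9)], -3), ([(6, 9), (8, 9)], -3), ([(6, 9), (7, 8)], 3), ([(0, 6), (8, 9)], 3),
  ([(0, 6), (7, 8)], 3), ([(0, 6), (7, 9)], 3), ([(0, 6), (6, 7)], -3), ([(0, 6), (6, 8)], -3),
  ([(0, 6), (6, 9)], -3), ([(0, 7), (6, 7)], -3), ([(0, 7), (8, 9)], 3), ([(0, 7), (7, 8)], -3),
  ([(0, 7), (7, 9)], -3), ([(0, 7), (6, 8)], 3), ([(0, 7), (6, 9)], 3), ([(0, 8), (6, 8)], -3),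
  ([(0, 8), (7, 8)], -3), ([(0, 8), (8, 9)], -3), ([(0, 8), (7, 9)], 3), ([(0, 8), (6, 7)], 3),
  ([(0, 8), (6, 9)], 3), ([(0, 9), (6, 9)], -3), ([(0, 9), (7, 9)], -3), ([(0, 9), (8, 9)], -3),
  ([(0, 9), (7, 8)], 3), ([(0, 9), (6, 7)], 3), ([(0, 9), (6, 8)], 3)]

/-- An element of the group ring. -/
def eT0 : List (ℕ × ℤ) := ofWords 10 eT0W

theorem eT0_evn : Evns 10 eT0 := evns_ofWords (by norm_num) (by decide +kernel)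

/-- An element of the group ring. -/
def eS1W : List (List (ℕ × ℕ) × ℤ) := [
  ([(2, 4), (3, 4)], -3), ([(2, 3), (3, 4)], -3), ([(2, 4), (3, 5)], 3), ([(2, 5), (3, 5)], -3),
  ([(3, 4), (4, 5)], -3), ([(2, 3), (3, 5)], -3), ([(2, 4), (4, 5)], -3), ([(2, 5), (3, 4)], 3),
  ([(3, 5), (4, 5)], -3), ([(2, 5), (4, 5)], -3), ([(2, 3), (4, 5)], 3), ([(0, 5), (2, 4)], 3),
  ([(0, 5), (2, 3)], 3), ([(0, 5), (3, 4)], 3), ([(0, 5), (3, 5)], -3), ([(0, 5), (2, 5)], -3),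
  ([(0, 5), (4, 5)], -3), ([(0, 3), (3, 5)], -3), ([(0, 3), (2, 4)], 3), ([(0, 3), (2, 3)], -3),
  ([(0, 3), (3, 4)], -3), ([(0, 3), (2, 5)], 3), ([(0, 3), (4, 5)], 3), ([(0, 2), (2, 5)], -3),
  ([(0, 2), (2, 3)], -3), ([(0, 2), (2, 4)], -3), ([(0, 2), (3, 4)], 3), ([(0, 2), (3, 5)], 3),
  ([(0, 2), (4, 5)], 3), ([(0, 4), (4, 5)], -3), ([(0, 4), (3, 4)], -3), ([(0, 4), (2, 4)], -3),
  ([(0, 4), (2, 3)], 3), ([(0, 4), (3, 5)], 3), ([(0, 4), (2, 5)], 3)]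

/-- An element of the group ring. -/
def eS1 : List (ℕ × ℤ) := ofWords 10 eS1W

theorem eS1_evn : Evns 10 eS1 := evns_ofWords (by norm_num) (by decide +kernel)

/-- An element of the group ring. -/
def eT1W : List (List (ℕ × ℕ) × ℤ) := [
  ([(7, 8), (8, 9)], -3), ([(7, 9), (8, 9)], -3), ([(6, 7), (8, 9)], 3), ([(6, 7), (7, 8)], -3),
  ([(6, 7), (7, 9)], -3), ([(6, 8), (7, 8)], -3), ([(6, 8), (8, 9)], -3), ([(6, 8), (7, 9)], 3),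
  ([(6, 9), (7, 9)], -3), ([(6, 9), (8, 9)], -3), ([(6, 9), (7, 8)], 3), ([(1, 6), (8, 9)], 3),
  ([(1, 6), (7, 8)], 3), ([(1, 6), (7, 9)], 3), ([(1, 6), (6, 7)], -3), ([(1, 6), (6, 8)], -3),
  ([(1, 6), (6, 9)], -3), ([(1, 7), (6, 7)], -3), ([(1, 7), (8, 9)], 3), ([(1, 7), (7, 8)], -3),
  ([(1, 7), (7, 9)], -3), ([(1, 7), (6, 8)], 3), ([(1, 7), (6, 9)], 3), ([(1, 8), (6, 8)], -3),
  ([(1, 8), (7, 8)], -3), ([(1, 8), (8, 9)], -3), ([(1, 8), (7, 9)], 3), ([(1, 8), (6, 7)], 3),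
  ([(1, 8), (6, 9)], 3), ([(1, 9), (6, 9)], -3), ([(1, 9), (7, 9)], -3), ([(1, 9), (8, 9)], -3),
  ([(1, 9), (7, 8)], 3), ([(1, 9), (6, 7)], 3), ([(1, 9), (6, 8)], 3)]

/-- An element of the group ring. -/
def eT1 : List (ℕ × ℤ) := ofWords 10 eT1W

theorem eT1_evn : Evns 10 eT1 := evns_ofWords (by norm_num) (by decide +kernel)

/-- An element of the group ring. -/
def eS2W : List (List (ℕ × ℕ) × ℤ) := [
  ([(3, 5), (4, 5)], -3), ([(3, 4), (4, 5)], -3), ([(1, 5), (3, 4)], 3), ([(1, 5), (4, 5)], -3),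
  ([(1, 5), (3, 5)], -3), ([(1, 4), (4, 5)], -3), ([(1, 4), (3, 4)], -3), ([(1, 4), (3, 5)], 3),
  ([(1, 3), (3, 5)], -3), ([(1, 3), (3, 4)], -3), ([(1, 3), (4, 5)], 3), ([(0, 1), (3, 4)], 3),
  ([(0, 1), (4, 5)], 3), ([(0, 1), (3, 5)], 3), ([(0, 1), (1, 5)], -3), ([(0, 1), (1, 4)], -3),
  ([(0, 1), (1, 3)], -3), ([(0, 5), (1, 5)], -3), ([(0, 5), (3, 4)], 3), ([(0, 5), (4, 5)], -3),
  ([(0, 5), (3, 5)], -3), ([(0, 5), (1, 4)], 3), ([(0, 5), (1, 3)], 3), ([(0, 4), (1, 4)], -3),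
  ([(0, 4), (4, 5)], -3), ([(0, 4), (3, 4)], -3), ([(0, 4), (3, 5)], 3), ([(0, 4), (1, 5)], 3),
  ([(0, 4), (1, 3)], 3), ([(0, 3), (1, 3)], -3), ([(0, 3), (3, 5)], -3), ([(0, 3), (3, 4)], -3),
  ([(0, 3), (4, 5)], 3), ([(0, 3), (1, 5)], 3), ([(0, 3), (1, 4)], 3)]

/-- An element of the group ring. -/
def eS2 : List (ℕ × ℤ) := ofWords 10 eS2W

theorem eS2_evn : Evns 10 eS2 := evns_ofWords (by norm_num) (by decide +kernel)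

/-- An element of the group ring. -/
def eT2W : List (List (ℕ × ℕ) × ℤ) := [
  ([(7, 8), (8, 9)], -3), ([(7, 9), (8, 9)], -3), ([(6, 7), (8, 9)], 3), ([(6, 7), (7, 8)], -3),
  ([(6, 7), (7, 9)], -3), ([(6, 8), (7, 8)], -3), ([(6, 8), (8, 9)], -3), ([(6, 8), (7, 9)], 3),
  ([(6, 9), (7, 9)], -3), ([(6, 9), (8, 9)], -3), ([(6, 9), (7, 8)], 3), ([(2, 6), (8, 9)], 3),
  ([(2, 6), (7, 8)], 3), ([(2, 6), (7, 9)], 3), ([(2, 6), (6, 7)], -3), ([(2, 6), (6, 8)], -3),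
  ([(2, 6), (6, 9)], -3), ([(2, 7), (6, 7)], -3), ([(2, 7), (8, 9)], 3), ([(2, 7), (7, 8)], -3),
  ([(2, 7), (7, 9)], -3), ([(2, 7), (6, 8)], 3), ([(2, 7), (6, 9)], 3), ([(2, 8), (6, 8)], -3),
  ([(2, 8), (7, 8)], -3), ([(2, 8), (8, 9)], -3), ([(2, 8), (7, 9)], 3), ([(2, 8), (6, 7)], 3),
  ([(2, 8), (6, 9)], 3), ([(2, 9), (6, 9)], -3), ([(2, 9), (7, 9)], -3), ([(2, 9), (8, 9)], -3),
  ([(2, 9), (7, 8)], 3), ([(2, 9), (6, 7)], 3), ([(2, 9), (6, 8)], 3)]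

/-- An element of the group ring. -/
def eT2 : List (ℕ × ℤ) := ofWords 10 eT2W

theorem eT2_evn : Evns 10 eT2 := evns_ofWords (by norm_num) (by decide +kernel)

/-- An element of the group ring. -/
def eS3W : List (List (ℕ × ℕ) × ℤ) := [
  ([(0, 2), (2, 5)], -3), ([(0, 5), (2, 5)], -3), ([(0, 5), (1, 2)], 3), ([(1, 2), (2, 5)], -3),
  ([(0, 1), (1, 2)], -3), ([(1, 5), (2, 5)], -3), ([(0, 1), (1, 5)], -3), ([(0, 2), (1, 5)], 3),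
  ([(0, 2), (1, 2)], -3), ([(0, 5), (1, 5)], -3), ([(0, 1), (2, 5)], 3), ([(0, 5), (1, 4)], 3),
  ([(1, 4), (2, 5)], 3), ([(0, 2), (1, 4)], 3), ([(1, 2), (2, 4)], -3), ([(1, 5), (4, 5)], -3),
  ([(0, 4), (1, 4)], -3), ([(1, 4), (2, 4)], -3), ([(0, 5), (2, 4)], 3), ([(2, 5), (4, 5)], -3),
  ([(0, 4), (2, 4)], -3), ([(1, 5), (2, 4)], 3), ([(0, 1), (2, 4)], 3), ([(1, 4), (4, 5)], -3),
  ([(2, 4), (4, 5)], -3), ([(0, 4), (4, 5)], -3), ([(0, 2), (4, 5)], 3), ([(1, 2), (4, 5)], 3),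
  ([(0, 1), (4, 5)], 3), ([(0, 1), (1, 4)], -3), ([(0, 2), (2, 4)], -3), ([(0, 5), (4, 5)], -3),
  ([(0, 4), (2, 5)], 3), ([(0, 4), (1, 2)], 3), ([(0, 4), (1, 5)], 3)]

/-- An element of the group ring. -/
def eS3 : List (ℕ × ℤ) := ofWords 10 eS3W

theorem eS3_evn : Evns 10 eS3 := evns_ofWords (by norm_num) (by decide +kernel)

/-- An element of the group ring. -/
def eT3W : List (List (ℕ × ℕ) × ℤ) := [
  ([(7, 8), (8, 9)], -3), ([(7, 9), (8, 9)], -3), ([(6, 7), (8, 9)], 3), ([(6, 7), (7, 8)], -3),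
  ([(6, 7), (7, 9)], -3), ([(6, 8), (7, 8)], -3), ([(6, 8), (8, 9)], -3), ([(6, 8), (7, 9)], 3),
  ([(6, 9), (7, 9)], -3), ([(6, 9), (8, 9)], -3), ([(6, 9), (7, 8)], 3), ([(3, 6), (8, 9)], 3),
  ([(3, 6), (7, 8)], 3), ([(3, 6), (7, 9)], 3), ([(3, 6), (6, 7)], -3), ([(3, 6), (6, 8)], -3),
  ([(3, 6), (6, 9)], -3), ([(3, 7), (6, 7)], -3), ([(3, 7), (8, 9)], 3), ([(3, 7), (7, 8)], -3),
  ([(3, 7), (7, 9)], -3), ([(3, 7), (6, 8)], 3), ([(3, 7), (6, 9)], 3), ([(3, 8), (6, 8)], -3),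
  ([(3, 8), (7, 8)], -3), ([(3, 8), (8, 9)], -3), ([(3, 8), (7, 9)], 3), ([(3, 8), (6, 7)], 3),
  ([(3, 8), (6, 9)], 3), ([(3, 9), (6, 9)], -3), ([(3, 9), (7, 9)], -3), ([(3, 9), (8, 9)], -3),
  ([(3, 9), (7, 8)], 3), ([(3, 9), (6, 7)], 3), ([(3, 9), (6, 8)], 3)]

/-- An element of the group ring. -/
def eT3 : List (ℕ × ℤ) := ofWords 10 eT3W

theorem eT3_evn : Evns 10 eT3 := evns_ofWords (by norm_num) (by decide +kernel)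

/-- An element of the group ring. -/
def eS4W : List (List (ℕ × ℕ) × ℤ) := [
  ([(2, 3), (3, 5)], -3), ([(2, 5), (3, 5)], -3), ([(0, 2), (3, 5)], 3), ([(0, 2), (2, 3)], -3),
  ([(0, 2), (2, 5)], -3), ([(0, 3), (2, 3)], -3), ([(0, 3), (3, 5)], -3), ([(0, 3), (2, 5)], 3),
  ([(0, 5), (2, 5)], -3), ([(0, 5), (3, 5)], -3), ([(0, 5), (2, 3)], 3), ([(0, 1), (3, 5)], 3),
  ([(0, 1), (2, 3)], 3), ([(0, 1), (2, 5)], 3), ([(0, 2), (1, 2)], -3), ([(0, 3), (1, 3)], -3),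
  ([(0, 5), (1, 5)], -3), ([(0, 1), (1, 2)], -3), ([(1, 2), (3, 5)], 3), ([(1, 2), (2, 3)], -3),
  ([(1, 2), (2, 5)], -3), ([(0, 3), (1, 2)], 3), ([(0, 5), (1, 2)], 3), ([(0, 1), (1, 3)], -3),
  ([(1, 3), (2, 3)], -3), ([(1, 3), (3, 5)], -3), ([(1, 3), (2, 5)], 3), ([(0, 2), (1, 3)], 3),
  ([(0, 5), (1, 3)], 3), ([(0, 1), (1, 5)], -3), ([(1, 5), (2, 5)], -3), ([(1, 5), (3, 5)], -3),
  ([(1, 5), (2, 3)], 3), ([(0, 2), (1, 5)], 3), ([(0, 3), (1, 5)], 3)]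

/-- An element of the group ring. -/
def eS4 : List (ℕ × ℤ) := ofWords 10 eS4W

theorem eS4_evn : Evns 10 eS4 := evns_ofWords (by norm_num) (by decide +kernel)

/-- An element of the group ring. -/
def eT4W : List (List (ℕ × ℕ) × ℤ) := [
  ([(7, 8), (8, 9)], -3), ([(7, 9), (8, 9)], -3), ([(6, 7), (8, 9)], 3), ([(6, 7), (7, 8)], -3),
  ([(6, 7), (7, 9)], -3), ([(6, 8), (7, 8)], -3), ([(6, 8), (8, 9)], -3), ([(6, 8), (7, 9)], 3),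
  ([(6, 9), (7, 9)], -3), ([(6, 9), (8, 9)], -3), ([(6, 9), (7, 8)], 3), ([(4, 6), (8, 9)], 3),
  ([(4, 6), (7, 8)], 3), ([(4, 6), (7, 9)], 3), ([(4, 6), (6, 7)], -3), ([(4, 6), (6, 8)], -3),
  ([(4, 6), (6, 9)], -3), ([(4, 7), (6, 7)], -3), ([(4, 7), (8, 9)], 3), ([(4, 7), (7, 8)], -3),
  ([(4, 7), (7, 9)], -3), ([(4, 7), (6, 8)], 3), ([(4, 7), (6, 9)], 3), ([(4, 8), (6, 8)], -3),
  ([(4, 8), (7, 8)], -3), ([(4, 8), (8, 9)], -3), ([(4, 8), (7, 9)], 3), ([(4, 8), (6, 7)], 3),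
  ([(4, 8), (6, 9)], 3), ([(4, 9), (6, 9)], -3), ([(4, 9), (7, 9)], -3), ([(4, 9), (8, 9)], -3),
  ([(4, 9), (7, 8)], 3), ([(4, 9), (6, 7)], 3), ([(4, 9), (6, 8)], 3)]

/-- An element of the group ring. -/
def eT4 : List (ℕ × ℤ) := ofWords 10 eT4W

theorem eT4_evn : Evns 10 eT4 := evns_ofWords (by norm_num) (by decide +kernel)

/-- An element of the group ring. -/
def eS5W : List (List (ℕ × ℕ) × ℤ) := [
  ([(2, 3), (3, 4)], -3), ([(2, 4), (3, 4)], -3), ([(1, 2), (3, 4)], 3), ([(1, 2), (2, 3)], -3),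
  ([(1, 2), (2, 4)], -3), ([(1, 3), (2, 3)], -3), ([(1, 3), (3, 4)], -3), ([(1, 3), (2, 4)], 3),
  ([(1, 4), (2, 4)], -3), ([(1, 4), (3, 4)], -3), ([(1, 4), (2, 3)], 3), ([(0, 1), (3, 4)], 3),
  ([(0, 1), (2, 3)], 3), ([(0, 1), (2, 4)], 3), ([(0, 1), (1, 2)], -3), ([(0, 1), (1, 3)], -3),
  ([(0, 1), (1, 4)], -3), ([(0, 2), (1, 2)], -3), ([(0, 2), (3, 4)], 3), ([(0, 2), (2, 3)], -3),
  ([(0, 2), (2, 4)], -3), ([(0, 2), (1, 3)], 3), ([(0, 2), (1, 4)], 3), ([(0, 3), (1, 3)], -3),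
  ([(0, 3), (2, 3)], -3), ([(0, 3), (3, 4)], -3), ([(0, 3), (2, 4)], 3), ([(0, 3), (1, 2)], 3),
  ([(0, 3), (1, 4)], 3), ([(0, 4), (1, 4)], -3), ([(0, 4), (2, 4)], -3), ([(0, 4), (3, 4)], -3),
  ([(0, 4), (2, 3)], 3), ([(0, 4), (1, 2)], 3), ([(0, 4), (1, 3)], 3)]

/-- An element of the group ring. -/
def eS5 : List (ℕ × ℤ) := ofWords 10 eS5W

theorem eS5_evn : Evns 10 eS5 := evns_ofWords (by norm_num) (by decide +kernel)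

/-- An element of the group ring. -/
def eT5W : List (List (ℕ × ℕ) × ℤ) := [
  ([(7, 8), (8, 9)], -3), ([(7, 9), (8, 9)], -3), ([(6, 7), (8, 9)], 3), ([(6, 7), (7, 8)], -3),
  ([(6, 7), (7, 9)], -3), ([(6, 8), (7, 8)], -3), ([(6, 8), (8, 9)], -3), ([(6, 8), (7, 9)], 3),
  ([(6, 9), (7, 9)], -3), ([(6, 9), (8, 9)], -3), ([(6, 9), (7, 8)], 3), ([(5, 6), (8, 9)], 3),
  ([(5, 6), (7, 8)], 3), ([(5, 6), (7, 9)], 3), ([(5, 6), (6, 7)], -3), ([(5, 6), (6, 8)], -3),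
  ([(5, 6), (6, 9)], -3), ([(5, 7), (6, 7)], -3), ([(5, 7), (8, 9)], 3), ([(5, 7), (7, 8)], -3),
  ([(5, 7), (7, 9)], -3), ([(5, 7), (6, 8)], 3), ([(5, 7), (6, 9)], 3), ([(5, 8), (6, 8)], -3),
  ([(5, 8), (7, 8)], -3), ([(5, 8), (8, 9)], -3), ([(5, 8), (7, 9)], 3), ([(5, 8), (6, 7)], 3),
  ([(5, 8), (6, 9)], 3), ([(5, 9), (6, 9)], -3), ([(5, 9), (7, 9)], -3), ([(5, 9), (8, 9)], -3),
  ([(5, 9), (7, 8)], 3), ([(5, 9), (6, 7)], 3), ([(5, 9), (6, 8)], 3)]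

/-- An element of the group ring. -/
def eT5 : List (ℕ × ℤ) := ofWords 10 eT5W

theorem eT5_evn : Evns 10 eT5 := evns_ofWords (by norm_num) (by decide +kernel)

/-- Permutations carrying the first block to the others. -/
def sig : List (List (ℕ × ℕ)) := [
  [(0, 5), (1, 2)], [(1, 5), (2, 3)], [(2, 5), (3, 4)], [(0, 4), (3, 5)], [(0, 1), (4, 5)], []]

end Cfsg.Agent.Solv.AltSec.Five
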