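import Cfsg.Agent.Lib.Solv.AltSec.Five.Cases
import Cfsg.Agent.Lib.Solv.AltSec.Five.DataCount
import Cfsg.Agent.Lib.Solv.AltSec.Tools

/-!
A nonzero module of the alternating group of degree ten in characteristic five contains a nonzero
vector fixed by a nonsolvable subgroup.
-/

set_option autoImplicit false
set_option linter.style.haveILetI false

namespace Cfsg.Agent.Solv.AltSec.Five

/-- Keys. -/
def keysA : List ℕ := [
  654820258320, 654820131600, 654820189200, 654820196640, 654820250400, 654820062240,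
  654820254000, 654820065840, 654820119600, 654820127040, 654820184640, 654820057920,
  654820196865, 654820254465, 654820127745, 654820257825, 654820000545, 654820181025,
  654820130865, 654820246065, 654819992625, 654820188225, 654819996225, 654820115265,
  654820258050, 654820066050, 654820185090, 654820196370, 654820246290, 654819996690,
  654820249650, 654820000050, 654820049970, 654820061250, 654820180290, 654819988290,
  654820131075, 654820250115, 654820058115, 654820253715, 654820000275, 654820115475,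
  654820065315, 654820245795, 654819988515, 654820118595, 654819991875, 654820049475,
  654820188420, 654820061700, 654820119300, 654820126740, 654820180500, 654819992340,
  654820184100, 654819995940, 654820049700, 654820057140, 654820114740, 654819988020]

/-- Keys. -/
def keysB : List ℕ := [
  654820258320, 521944707600, 582342685200, 590144090640, 646515536400, 449215476240,
  650290410000, 452990349840, 509361795600, 517163201040, 577561178640, 444685627920,
  590380020240, 650777997840, 517902447120, 654301213200, 384523579920, 573770576400,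
  521174004240, 641969959440, 376218858000, 581320323600, 379993731600, 504816218640,
  654537142800, 453210550800, 578033037840, 589860975120, 642205889040, 380481319440,
  645729104400, 384004534800, 436349448720, 448177386000, 572999873040, 371673281040,
  521394205200, 646216692240, 444890100240, 649991565840, 384240464400, 505036419600,
  452439847440, 641686843920, 371909210640, 508307976720, 375432426000, 435830403600,
  581524795920, 448649245200, 509047222800, 516848628240, 573220074000, 375920013840,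
  576994947600, 379694887440, 436066333200, 443867738640, 504265716240, 371390165520]


/-- Short words in two letters. -/
def words2 : List (List ℕ) :=
  [[], [0], [1], [0, 0], [0, 1], [1, 0], [1, 1], [0, 0, 1], [0, 1, 0], [0, 1, 1], [1, 0, 0], [1, 0, 1],
    [1, 1, 0], [0, 0, 1, 1], [0, 1, 1, 0], [1, 0, 0, 1], [1, 1, 0, 0], [0, 1, 0, 1], [1, 0, 1, 0]]

/-- Short words in three letters. -/
def words3 : List (List ℕ) :=
  ([[], [0], [1], [2], [1, 2]] : List (List ℕ)).flatMap fun w =>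
    ([[], [0], [0, 0], [1], [2], [1, 2]] : List (List ℕ)).map fun w' => w' ++ w

/-- Generators of the normalizer of two cycles of length five. -/
def kW : List (List (ℕ × ℕ)) :=
  [[(0, 1), (1, 2), (2, 3), (3, 4)], [(1, 4), (2, 3)], [(5, 6), (6, 7), (7, 8), (8, 9)], [(6, 9), (7, 8)]]

theorem k_words : kW.all (wordOK 10) = true := by decide +kernel

theorem k_rels : evalW 10 kW [0, 0, 0, 0, 0] = evalW 10 kW [] ∧ evalW 10 kW [2, 2, 2, 2, 2] = evalW 10 kW [] ∧
    evalW 10 kW [1, 1] = evalW 10 kW [] ∧ evalW 10 kW [3, 3] = evalW 10 kW [] ∧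
    evalW 10 kW [0, 1] = evalW 10 kW [1, 0, 0, 0, 0] ∧ evalW 10 kW [2, 3] = evalW 10 kW [3, 2, 2, 2, 2] ∧
    evalW 10 kW [0, 2] = evalW 10 kW [2, 0] ∧ evalW 10 kW [0, 3] = evalW 10 kW [3, 0] ∧
    evalW 10 kW [2, 1] = evalW 10 kW [1, 2] ∧ evalW 10 kW [1, 3] = evalW 10 kW [3, 1] := by decide +kernel

/-- The operators of the six blocks, with the permutations carrying them to the first block. -/
def sixList : List (List (ℕ × ℕ) × List (ℕ × ℤ)) := [(sig.getD 0 [], eS0), (sig.getD 5 [], eS5)]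

theorem op_facts : conjOK 10 5 (kW.getD 0 []) eA eA = true ∧ conjOK 10 5 (kW.getD 1 []) eA eA = true ∧
    conjOK 10 5 (kW.getD 2 []) eA eA = true ∧ conjOK 10 5 (kW.getD 3 []) eA eA = true ∧
    conjOK 10 5 (kW.getD 0 []) eB eB = true ∧ conjOK 10 5 (kW.getD 1 []) eB eB = true ∧
    conjOK 10 5 (kW.getD 2 []) eB eB = true ∧ conjOK 10 5 (kW.getD 3 []) eB eB = true ∧
    (fE.all fun g => conjOK 10 5 g eA eA) = true ∧
    conjOK 10 5 sAB eB eA = true := by decide +kernel

theorem comm_facts : (eBW.all fun q => conjOK 10 5 q.1 eA eA) = true := by decide +kernel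

theorem idemA : opEq 5 keysA (mulOp 10 eA eA) eA = true := by decide +kernel

theorem idemB : opEq 5 keysB (mulOp 10 eB eB) eB = true := by decide +kernel

theorem sumF_kill : opEq 5 keysB (mulOp 10 eB sumF) [] = true := by decide +kernel

theorem six_facts : (sixList.all fun q => conjOK 10 5 q.1 q.2 eA && moveOK 10 q.1 fF fF words2) = true := by
  decide +kernel

theorem move_facts : moveOK 10 [] fF (sumFW.map Prod.fst) words2 = true ∧ moveOK 10 sTF fN fF words2 = true ∧
    moveOK 10 sAB fEF fE words2 = true ∧ moveOK 10 [] (zN :: fE) fN words3 = true ∧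
    moveOK 10 [] fE (pNW.map Prod.fst) words2 = true ∧ fN2 = [tN, zT] ∧
    moveOK 10 [] [kW.getD 0 [], kW.getD 1 []] [kW.getD 0 [], kW.getD 1 []] words2 = true := by
  decide +kernel

theorem fF_comm : ([kW.getD 0 [], kW.getD 1 []].all fun g => moveOK 10 g fF fF words2) = true := by decide +kernel

theorem inv_facts : (fE.all fun g => wordOK 10 g && opEq 5 (keysN ++ keysX) (lmulOp 10 (wcode 10 g) pN) pN &&
      opEq 5 keysX (lmulOp 10 (wcode 10 g) pX) pX) = true ∧
    (fEF.all fun g => wordOK 10 g && opEq 5 keysX (lmulOp 10 (wcode 10 g) pX) pX) = true ∧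
    (fET.all fun g => wordOK 10 g && opEq 5 keysT (lmulOp 10 (wcode 10 g) pT) pT) = true ∧
    fET.getD 0 [] = tN ∧
    wordOK 10 sDiag = true ∧ wordOK 10 zT = true ∧ wordOK 10 zX = true ∧
    comp 10 (wcode 10 zX) (wcode 10 sDiag) = comp 10 (wcode 10 sDiag) (wcode 10 zT) := by decide +kernel

variable {V : Type*} [AddCommGroup V] [inst : DistribMulAction (alternatingGroup (Fin 10)) V]

/-- The generators as group elements. -/
noncomputable def kg (i : ℕ) : alternatingGroup (Fin 10) := el 10 (wcode 10 (kW.getD i []))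

theorem halve (hp : ∀ u : V, (5 : ℤ) • u = 0) (u : V) (h : u + u = 0) : u = 0 := by
  calc u = (5 : ℤ) • u - (2 : ℤ) • (u + u) := by
        rw [smul_add, ← add_smul, ← sub_smul]
        norm_num
    _ = 0 := by rw [hp, h, smul_zero, sub_zero]

theorem k_relations :
    kg 0 ^ 5 = 1 ∧ kg 2 ^ 5 = 1 ∧ kg 1 * kg 1 = 1 ∧ kg 3 * kg 3 = 1 ∧
    kg 0 * kg 1 = kg 1 * (kg 0 * (kg 0 * (kg 0 * kg 0))) ∧
    kg 2 * kg 3 = kg 3 * (kg 2 * (kg 2 * (kg 2 * kg 2))) ∧
    kg 0 * kg 2 = kg 2 * kg 0 ∧ kg 0 * kg 3 = kg 3 * kg 0 ∧ kg 2 * kg 1 = kg 1 * kg 2 ∧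
    kg 1 * kg 3 = kg 3 * kg 1 := by
  obtain ⟨r1, r2, r3, r4, r5, r6, r7, r8, r9, r10⟩ := k_rels
  have h := fun w w' e => rel (n := 10) (by norm_num) kW k_words w w' e
  have e1 := h _ _ r1
  have e2 := h _ _ r2
  have e3 := h _ _ r3
  have e4 := h _ _ r4
  have e5 := h _ _ r5
  have e6 := h _ _ r6
  have e7 := h _ _ r7
  have e8 := h _ _ r8
  have e9 := h _ _ r9
  have e10 := h _ _ r10
  simp only [List.map_cons, List.map_nil, List.prod_cons, List.prod_nil, mul_one] at e1 e2 e3 e4 e5 e6 e7 e8 e9 e10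
  refine ⟨?_, ?_, e3, e4, e5, e6, e7, e8, e9, e10⟩
  · simpa only [kg, pow_succ', pow_zero, mul_one] using e1
  · simpa only [kg, pow_succ', pow_zero, mul_one] using e2

/-- An invariant subgroup contains a vector fixed by a cycle and eigen for an inverting involution. -/
theorem exists_five (hp : ∀ u : V, (5 : ℤ) • u = 0) (W : AddSubgroup V)
    (h0 : ∀ u ∈ W, kg 0 • u ∈ W) (h1 : ∀ u ∈ W, kg 1 • u ∈ W) (u : V) (hu : u ∈ W) (hu0 : u ≠ 0) :
    ∃ v ∈ W, v ≠ 0 ∧ kg 0 • v = v ∧ ∃ s : ℤ, (s = 1 ∨ s = -1) ∧ kg 1 • v = s • v := by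
  obtain ⟨r1, -, r3, -, r5, -⟩ := k_relations
  obtain ⟨a, ha, ha0, haf⟩ := exists_fixed _ r1 hp W h0 u hu hu0
  have hW' : ∀ w ∈ W ⊓ eigSub (kg 0) 1, kg 1 • w ∈ W ⊓ eigSub (kg 0) 1 := by
    rintro w ⟨hw, hwf⟩
    have hwf' : kg 0 • w = w := mem_eigSub_one.1 hwf
    refine ⟨h1 w hw, mem_eigSub_one.2 ?_⟩
    rw [← mul_smul, r5]
    simp only [mul_smul, hwf']
  obtain ⟨v, ⟨hv, hvf⟩, hv0, s, hs, hvt⟩ :=
    exists_eigen _ r3 _ hW' (halve hp) a ⟨ha, mem_eigSub_one.2 haf⟩ ha0
  exact ⟨v, hv, hv0, mem_eigSub_one.1 hvf, s, hs, hvt⟩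

/-- The same for two blocks. -/
theorem exists_k (hp : ∀ u : V, (5 : ℤ) • u = 0) (W : AddSubgroup V)
    (hW : ∀ i < 4, ∀ u ∈ W, kg i • u ∈ W) (u : V) (hu : u ∈ W) (hu0 : u ≠ 0) :
    ∃ v ∈ W, v ≠ 0 ∧ kg 0 • v = v ∧ kg 2 • v = v ∧ ∃ s s' : ℤ, (s = 1 ∨ s = -1) ∧ (s' = 1 ∨ s' = -1) ∧
      kg 1 • v = s • v ∧ kg 3 • v = s' • v := by
  obtain ⟨r1, r2, r3, r4, r5, r6, r7, r8, r9, r10⟩ := k_relations
  obtain ⟨a, ha, ha0, haf⟩ := exists_fixed _ r1 hp W (hW 0 (by norm_num)) u hu hu0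
  set W1 := W ⊓ eigSub (kg 0) 1 with hW1
  have i2 : ∀ w ∈ W1, kg 2 • w ∈ W1 := by
    rintro w ⟨hw, hwf⟩
    refine ⟨hW 2 (by norm_num) w hw, mem_eigSub_one.2 ?_⟩
    rw [← mul_smul, r7, mul_smul, mem_eigSub_one.1 hwf]
  obtain ⟨b, hb, hb0, hbf⟩ := exists_fixed _ r2 hp W1 i2 a ⟨ha, mem_eigSub_one.2 haf⟩ ha0
  set W2 := W1 ⊓ eigSub (kg 2) 1 with hW2
  have i1 : ∀ w ∈ W2, kg 1 • w ∈ W2 := by
    rintro w ⟨⟨hw, hwf⟩, hwf'⟩
    have e : kg 0 • w = w := mem_eigSub_one.1 hwf
    refine ⟨⟨hW 1 (by norm_num) w hw, mem_eigSub_one.2 ?_⟩, mem_eigSub_one.2 ?_⟩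
    · rw [← mul_smul, r5]
      simp only [mul_smul, e]
    · rw [← mul_smul, r9, mul_smul, mem_eigSub_one.1 hwf']
  have i3 : ∀ w ∈ W2, kg 3 • w ∈ W2 := by
    rintro w ⟨⟨hw, hwf⟩, hwf'⟩
    have e : kg 2 • w = w := mem_eigSub_one.1 hwf'
    refine ⟨⟨hW 3 (by norm_num) w hw, mem_eigSub_one.2 ?_⟩, mem_eigSub_one.2 ?_⟩
    · rw [← mul_smul, r8, mul_smul, mem_eigSub_one.1 hwf]
    · rw [← mul_smul, r6]
      simp only [mul_smul, e]
  obtain ⟨c, hc, hc0, s, hs, hct⟩ :=
    exists_eigen _ r3 W2 i1 (halve hp) b ⟨hb, mem_eigSub_one.2 hbf⟩ hb0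
  have i3' : ∀ w ∈ W2 ⊓ eigSub (kg 1) s, kg 3 • w ∈ W2 ⊓ eigSub (kg 1) s := by
    rintro w ⟨hw, hwt⟩
    refine ⟨i3 w hw, mem_eigSub.2 ?_⟩
    rw [← mul_smul, r10, mul_smul, mem_eigSub.1 hwt, smul_comm]
  obtain ⟨v, ⟨⟨⟨hv, hvf⟩, hvf'⟩, hvt⟩, hv0, s', hs', hvt'⟩ :=
    exists_eigen _ r4 _ i3' (halve hp) c ⟨hc, mem_eigSub.2 hct⟩ hc0
  exact ⟨v, hv, hv0, mem_eigSub_one.1 hvf, mem_eigSub_one.1 hvf', s, s', hs, hs', mem_eigSub.1 hvt, hvt'⟩

theorem eA_idem (hp : ∀ u : V, (5 : ℤ) • u = 0) (u : V) : opApp 10 eA (opApp 10 eA u) = opApp 10 eA u := by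
  rw [← opApp_mul (by norm_num) eA_evn eA_evn, opApp_congr hp idemA]

theorem eB_idem (hp : ∀ u : V, (5 : ℤ) • u = 0) (u : V) : opApp 10 eB (opApp 10 eB u) = opApp 10 eB u := by
  rw [← opApp_mul (by norm_num) eB_evn eB_evn, opApp_congr hp idemB]

theorem eAB_comm (hp : ∀ u : V, (5 : ℤ) • u = 0) (u : V) :
    opApp 10 eB (opApp 10 eA u) = opApp 10 eA (opApp 10 eB u) := by
  refine opApp_comm (fun q hq w => ?_) u
  obtain ⟨a, ha, rfl⟩ := List.mem_map.1 hq
  exact opApp_conj hp (by norm_num) eA_evn eA_evn (List.all_eq_true.1 comm_facts a ha) w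

theorem kg_A (hp : ∀ u : V, (5 : ℤ) • u = 0) (i : ℕ) (hi : i < 4) (u : V) :
    kg i • opApp 10 eA u = opApp 10 eA (kg i • u) ∧ kg i • opApp 10 eB u = opApp 10 eB (kg i • u) := by
  obtain ⟨a0, a1, a2, a3, b0, b1, b2, b3, -⟩ := op_facts
  interval_cases i
  · exact ⟨opApp_conj hp (by norm_num) eA_evn eA_evn a0 u, opApp_conj hp (by norm_num) eB_evn eB_evn b0 u⟩
  · exact ⟨opApp_conj hp (by norm_num) eA_evn eA_evn a1 u, opApp_conj hp (by norm_num) eB_evn eB_evn b1 u⟩
  · exact ⟨opApp_conj hp (by norm_num) eA_evn eA_evn a2 u, opApp_conj hp (by norm_num) eB_evn eB_evn b2 u⟩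
  · exact ⟨opApp_conj hp (by norm_num) eA_evn eA_evn a3 u, opApp_conj hp (by norm_num) eB_evn eB_evn b3 u⟩

theorem both (H : Hyp 10 V) (hp : ∀ u : V, (5 : ℤ) • u = 0) (c : ℤ) (hc : c = 1 ∨ c = 0) (u : V)
    (ha : opApp 10 eA u = c • u) (hb : opApp 10 eB u = c • u) : u = 0 := by
  by_contra hu0
  have hinv : ∀ i < 4, ∀ w ∈ opSub 10 eA c ⊓ opSub (V := V) 10 eB c, kg i • w ∈ opSub 10 eA c ⊓ opSub 10 eB c := by
    rintro i hi w ⟨h1, h2⟩
    exact ⟨mem_opSub.2 (by rw [← (kg_A hp i hi w).1, mem_opSub.1 h1, smul_comm]),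
      mem_opSub.2 (by rw [← (kg_A hp i hi w).2, mem_opSub.1 h2, smul_comm])⟩
  obtain ⟨v, ⟨va, vb⟩, hv0, hf, hf', s, s', hs, hs', ht, ht'⟩ :=
    exists_k hp _ hinv u ⟨mem_opSub.2 ha, mem_opSub.2 hb⟩ hu0
  have ea := mem_opSub.1 va
  have eb := mem_opSub.1 vb
  have hfix : ∀ g ∈ [(kW.getD 0 [], (1 : ℤ)), (kW.getD 1 [], s), (kW.getD 2 [], 1), (kW.getD 3 [], s')],
      el 10 (wcode 10 g.1) • v = g.2 • v := by
    intro g hg
    simp only [List.mem_cons, List.not_mem_nil, or_false] at hg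
    rcases hg with rfl | rfl | rfl | rfl
    · exact hf.trans (one_smul _ _).symm
    · exact ht
    · exact hf'.trans (one_smul _ _).symm
    · exact ht'
  apply hv0
  rcases hc with rfl | rfl <;> rcases hs with rfl | rfl <;> rcases hs' with rfl | rfl
  · exact k1pp_zero H hp v hfix eb
  · exact k1pm_zero H hp v hfix eb
  · exact k1mp_zero H hp v hfix ea
  · exact k1mm_zero H hp v hfix ea
  · exact k0pp_zero H hp v hfix ea eb
  · exact k0pm_zero H hp v hfix ea
  · exact k0mp_zero H hp v hfix eb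
  · exact k0mm_zero H hp v hfix

/-- The two idempotents sum to one. -/
theorem sum_one (H : Hyp 10 V) (hp : ∀ u : V, (5 : ℤ) • u = 0) (u : V) :
    opApp 10 eA u + opApp 10 eB u = u := by
  have ab : opApp 10 eA (opApp 10 eB u) = 0 := by
    refine both H hp 1 (Or.inl rfl) _ ?_ ?_
    · rw [eA_idem hp, one_smul]
    · rw [eAB_comm hp, eB_idem hp, one_smul]
  have ba : opApp 10 eB (opApp 10 eA u) = 0 := by rw [eAB_comm hp, ab]
  refine (sub_eq_zero.1 (both H hp 0 (Or.inr rfl) (u - (opApp 10 eA u + opApp 10 eB u)) ?_ ?_)).symm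
  · rw [zero_smul, opApp_sub, opApp_add, eA_idem hp, ab, add_zero, sub_self]
  · rw [zero_smul, opApp_sub, opApp_add, eB_idem hp, ba, zero_add, sub_self]

/-- A vector fixed by the alternating group on four points of the second block vanishes. -/
theorem fF_zero (H : Hyp 10 V) (hp : ∀ u : V, (5 : ℤ) • u = 0) (u : V)
    (hu : ∀ g ∈ fF, el 10 (wcode 10 g) • u = u) : u = 0 := by
  by_contra hu0
  have hA : ∀ w : V, (∀ g ∈ fF, el 10 (wcode 10 g) • w = w) → opApp 10 eA w = w := by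
    intro w hw
    have h1 : opApp 10 sumF w = (12 : ℤ) • w := by
      rw [sumF, opApp_fix (by norm_num) move_facts.1 hw]
      congr 1
    have h2 : opApp 10 eB ((12 : ℤ) • w) = 0 := by
      rw [← h1, ← opApp_mul (by norm_num) eB_evn sumF_evn, opApp_congr hp sumF_kill]
      rfl
    have h3 : opApp 10 eB w = 0 := by
      rw [opApp_zsmul] at h2
      calc opApp 10 eB w = (3 : ℤ) • ((12 : ℤ) • opApp 10 eB w) - (7 : ℤ) • ((5 : ℤ) • opApp 10 eB w) := by
            rw [smul_smul, smul_smul, ← sub_smul]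
            norm_num
        _ = 0 := by rw [h2, hp, smul_zero, smul_zero, sub_zero]
    have := sum_one H hp w
    rwa [h3, add_zero] at this
  have hsix : ∀ q ∈ sixList, Evns 10 q.2 → ∀ w : V, (∀ g ∈ fF, el 10 (wcode 10 g) • w = w) →
      opApp 10 q.2 w = w := by
    intro q hq he w hw
    have h := List.all_eq_true.1 six_facts q hq
    simp only [Bool.and_eq_true] at h
    have e := opApp_conj hp (by norm_num) he eA_evn h.1 w
    rw [hA _ (move (by norm_num) h.2 w hw)] at e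
    exact smul_left_cancel _ e
  let W : AddSubgroup V := eigSub (el 10 (wcode 10 (fF.getD 0 []))) 1 ⊓ eigSub (el 10 (wcode 10 (fF.getD 1 []))) 1
  have hWmem : ∀ w, w ∈ W ↔ ∀ g ∈ fF, el 10 (wcode 10 g) • w = w := by
    intro w
    simp only [W, AddSubgroup.mem_inf, mem_eigSub_one]
    constructor
    · rintro ⟨h1, h2⟩ g hg
      rcases List.mem_cons.1 hg with rfl | hg
      · exact h1
      · rw [List.mem_singleton] at hg
        subst hg
        exact h2
    · exact fun h => ⟨h _ List.mem_cons_self, h _ (List.mem_cons_of_mem _ List.mem_cons_self)⟩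
  have hinv : ∀ i < 2, ∀ w ∈ W, kg i • w ∈ W := by
    intro i hi w hw
    have h := fun g hg => List.all_eq_true.1 fF_comm g hg
    refine (hWmem _).2 ?_
    interval_cases i
    · exact move (by norm_num) (h _ List.mem_cons_self) w ((hWmem w).1 hw)
    · exact move (by norm_num) (h _ (List.mem_cons_of_mem _ List.mem_cons_self)) w ((hWmem w).1 hw)
  obtain ⟨v, hv, hv0, hf, s, hs, ht⟩ :=
    exists_five hp W (hinv 0 (by norm_num)) (hinv 1 (by norm_num)) u ((hWmem u).2 hu) hu0
  have e0 : opApp 10 eS0 v = (1 : ℤ) • v :=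
    (hsix _ List.mem_cons_self eS0_evn v ((hWmem v).1 hv)).trans (one_smul _ _).symm
  have e5 : opApp 10 eS5 v = (1 : ℤ) • v :=
    (hsix _ (List.mem_cons_of_mem _ List.mem_cons_self) eS5_evn v ((hWmem v).1 hv)).trans (one_smul _ _).symm
  have hfix : ∀ g ∈ [(kW.getD 0 [], (1 : ℤ)), (kW.getD 1 [], s)], el 10 (wcode 10 g.1) • v = g.2 • v := by
    intro g hg
    simp only [List.mem_cons, List.not_mem_nil, or_false] at hg
    rcases hg with rfl | rfl
    · exact hf.trans (one_smul _ _).symm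
    · exact ht
  apply hv0
  rcases hs with rfl | rfl
  · exact sixp_zero H hp v hfix e0 e5
  · exact sixm_zero H hp v hfix e5

theorem fN_zero (H : Hyp 10 V) (hp : ∀ u : V, (5 : ℤ) • u = 0) (u : V)
    (hu : ∀ g ∈ fN, el 10 (wcode 10 g) • u = u) : u = 0 :=
  smul_eq_zero_iff_eq _ |>.1 (fF_zero H hp _ (move (by norm_num) move_facts.2.1 u hu))

theorem fN2_zero (H : Hyp 10 V) (hp : ∀ u : V, (5 : ℤ) • u = 0) (u : V)
    (hu : ∀ g ∈ fN2, el 10 (wcode 10 g) • u = u) : u = 0 := by
  refine tr_zero H hp u (fun g hg => ?_) (fN_zero H hp)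
  have h1 : trGens.all (fun g => g.2 == 1 && fN2.contains g.1) = true := by decide +kernel
  have h2 := List.all_eq_true.1 h1 g hg
  simp only [Bool.and_eq_true, beq_iff_eq, List.contains_iff_mem] at h2
  rw [h2.1, one_smul]
  exact hu _ h2.2

theorem fE_A (H : Hyp 10 V) (hp : ∀ u : V, (5 : ℤ) • u = 0) (u : V)
    (hu : ∀ g ∈ fE, el 10 (wcode 10 g) • u = u) : opApp 10 eA u = u := by
  obtain ⟨-, -, -, -, -, -, -, -, hE, -⟩ := op_facts
  refine (sub_eq_zero.1 (four_zero H hp (u - opApp 10 eA u) (fun g hg => ?_) ?_ (fN_zero H hp))).symm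
  · have h1 : fourGens.all (fun g => g.2 == 1 && fE.contains g.1) = true := by decide +kernel
    have h2 := List.all_eq_true.1 h1 g hg
    simp only [Bool.and_eq_true, beq_iff_eq, List.contains_iff_mem] at h2
    rw [h2.1, one_smul, smul_sub, opApp_conj hp (by norm_num) eA_evn eA_evn (List.all_eq_true.1 hE _ h2.2),
      hu _ h2.2]
  · rw [zero_smul, opApp_sub, eA_idem hp, sub_self]

theorem fEF_B (H : Hyp 10 V) (hp : ∀ u : V, (5 : ℤ) • u = 0) (u : V)
    (hu : ∀ g ∈ fEF, el 10 (wcode 10 g) • u = u) : opApp 10 eB u = u := by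
  obtain ⟨-, -, -, -, -, -, -, -, -, hAB⟩ := op_facts
  have e := opApp_conj hp (by norm_num) eB_evn eA_evn hAB u
  rw [fE_A H hp _ (move (by norm_num) move_facts.2.2.1 u hu)] at e
  exact smul_left_cancel _ e

theorem fixed_by_E (H : Hyp 10 V) (hp : ∀ u : V, (5 : ℤ) • u = 0) [Finite V] (u : V)
    (hu : ∀ g ∈ fE, el 10 (wcode 10 g) • u = u) : u = 0 := by
  obtain ⟨-, -, -, hNmv, hPmv, hN2, -⟩ := move_facts
  obtain ⟨hiE, hiF, hiT, hT0, wD, wT, wX, hconj⟩ := inv_facts
  have hn : 10 ≤ 16 := by norm_num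
  have invP : ∀ {g : List (ℕ × ℕ)} {P : List (ℕ × ℤ)} {keys : List ℕ}, wordOK 10 g = true → Evns 10 P →
      opEq 5 keys (lmulOp 10 (wcode 10 g) P) P = true → ∀ w : V,
        el 10 (wcode 10 g) • opApp 10 P w = opApp 10 P w := by
    intro g P keys hg hP he w
    rw [← opApp_lmul hn (evn_wcode hn hg) hP, opApp_congr hp he]
  have fN' : ∀ w : V, el 10 (wcode 10 zN) • opApp 10 pN w = opApp 10 pN w → opApp 10 pN w = 0 := by
    intro w hw
    refine fN_zero H hp _ (move_id hn hNmv _ ?_)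
    intro g hg
    rcases List.mem_cons.1 hg with rfl | hg
    · exact hw
    · have h := List.all_eq_true.1 hiE g hg
      simp only [Bool.and_eq_true] at h
      exact invP h.1.1 pN_evn h.1.2 w
  have fT' : ∀ w : V, el 10 (wcode 10 zT) • opApp 10 pT w = opApp 10 pT w → opApp 10 pT w = 0 := by
    intro w hw
    refine fN2_zero H hp _ ?_
    intro g hg
    rw [hN2] at hg
    rcases List.mem_cons.1 hg with rfl | hg
    · have h := List.all_eq_true.1 hiT (fET.getD 0 []) List.mem_cons_self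
      simp only [Bool.and_eq_true] at h
      rw [← hT0]
      exact invP h.1 pT_evn h.2 w
    · rw [List.mem_singleton] at hg
      subst hg
      exact hw
  have fX' : ∀ w : V, opApp 10 pX w = 0 := by
    intro w
    have ha : ∀ g ∈ fE, el 10 (wcode 10 g) • opApp 10 pX w = opApp 10 pX w := by
      intro g hg
      have h := List.all_eq_true.1 hiE g hg
      simp only [Bool.and_eq_true] at h
      exact invP h.1.1 pX_evn h.2 w
    have hb : ∀ g ∈ fEF, el 10 (wcode 10 g) • opApp 10 pX w = opApp 10 pX w := by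
      intro g hg
      have h := List.all_eq_true.1 hiF g hg
      simp only [Bool.and_eq_true] at h
      exact invP h.1 pX_evn h.2 w
    have h := sum_one H hp (opApp 10 pX w)
    rw [fE_A H hp _ ha, fEF_B H hp _ hb] at h
    exact add_eq_left.1 h
  obtain ⟨cN, cN'⟩ := decomp_card hn hp (halve hp) pN_evn dN_evn decompN fN'
  obtain ⟨cT, cT'⟩ := decomp_card hn hp (halve hp) pT_evn dT_evn decompT fT'
  obtain ⟨cX, -⟩ := decomp_card hn hp (halve hp) pX_evn dX_evn decompX (fun w _ => fX' w)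
  have hrX : Nat.card (Set.range (opApp (V := V) 10 pX)) = 1 := by
    rw [show Set.range (opApp (V := V) 10 pX) = {0} from
      Set.eq_singleton_iff_nonempty_unique_mem.2 ⟨⟨_, ⟨0, rfl⟩⟩, by rintro _ ⟨w, rfl⟩; exact fX' w⟩]
    simp
  have hD : Nat.card {w : V // el 10 (wcode 10 zT) • w = w} = Nat.card {w : V // el 10 (wcode 10 zX) • w = w} := by
    refine Nat.card_congr (Equiv.subtypeEquiv (MulAction.toPerm (el 10 (wcode 10 sDiag))) fun w => ?_)
    simp only [MulAction.toPerm_apply]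
    rw [← mul_smul, ← ((evn_wcode hn wX).comp hn (evn_wcode hn wD)).2, hconj,
      ((evn_wcode hn wD).comp hn (evn_wcode hn wT)).2, mul_smul, smul_left_cancel_iff]
  have hC := (cN' rfl).symm.trans (cT' rfl)
  rw [hrX, one_mul, ← hD] at cX
  set W := Nat.card (Set.range (opApp (V := V) 10 pN))
  set W' := Nat.card (Set.range (opApp (V := V) 10 pT))
  set C := Nat.card {w : V // el 10 (wcode 10 zN) • w = w}
  set D := Nat.card {w : V // el 10 (wcode 10 zT) • w = w}
  have posD : 0 < D := by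
    haveI : Nonempty {w : V // el 10 (wcode 10 zT) • w = w} := ⟨⟨0, smul_zero _⟩⟩
    exact Nat.card_pos
  have posC : 0 < C := by
    haveI : Nonempty {w : V // el 10 (wcode 10 zN) • w = w} := ⟨⟨0, smul_zero _⟩⟩
    exact Nat.card_pos
  have e1 : W' = 1 := by
    have : W' * D ^ 3 = 1 * D ^ 3 := by rw [one_mul, ← cT, cX]
    exact Nat.eq_of_mul_eq_mul_right (by positivity) this
  rw [e1, one_mul] at hC
  have e2 : W * W = 1 := by
    have : W * W * (W * C ^ 3) = 1 * (W * C ^ 3) := by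
      calc W * W * (W * C ^ 3) = (W * C) ^ 3 := by ring
        _ = D ^ 3 := by rw [hC]
        _ = 1 * (W * C ^ 3) := by rw [one_mul, ← cX, cN]
    refine Nat.eq_of_mul_eq_mul_right ?_ this
    have : 0 < W * C := hC ▸ posD
    exact Nat.mul_pos (Nat.pos_of_ne_zero fun h => by rw [h, zero_mul] at this; exact lt_irrefl 0 this)
      (by positivity)
  have e3 : W = 1 := Nat.eq_one_of_mul_eq_one_right e2
  have hs : Subsingleton (Set.range (opApp (V := V) 10 pN)) := (Nat.card_eq_one_iff_unique.1 e3).1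
  have h0 : opApp 10 pN u = 0 := by
    have := congrArg Subtype.val (hs.elim ⟨opApp 10 pN u, u, rfl⟩ ⟨opApp 10 pN 0, 0, rfl⟩)
    simpa only [opApp_zero] using this
  rw [pN, opApp_fix hn hPmv hu, show (pNW.map Prod.snd).sum = 3 * 5 + 1 by decide, add_smul, mul_smul, hp,
    smul_zero, zero_add, one_smul] at h0
  exact h0

/-- The key statement in characteristic five. -/
theorem key_five [Finite V] (H : Hyp 10 V) (hp : ∀ u : V, (5 : ℤ) • u = 0) (x : V) : x = 0 := by
  have hA : ∀ u : V, opApp 10 eA u = 0 := by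
    intro u
    by_contra hu0
    have hinv : ∀ i < 2, ∀ w ∈ opSub (V := V) 10 eA 1, kg i • w ∈ opSub 10 eA 1 := fun i hi w hw =>
      mem_opSub.2 (by rw [← (kg_A hp i (lt_trans hi (by norm_num)) w).1, mem_opSub.1 hw, smul_comm])
    obtain ⟨v, hv, hv0, hf, s, hs, ht⟩ := exists_five hp _ (hinv 0 (by norm_num)) (hinv 1 (by norm_num))
      (opApp 10 eA u) (mem_opSub.2 (by rw [eA_idem hp, one_smul])) hu0
    have hfix : ∀ g ∈ [(kW.getD 0 [], (1 : ℤ)), (kW.getD 1 [], s)], el 10 (wcode 10 g.1) • v = g.2 • v := by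
      intro g hg
      simp only [List.mem_cons, List.not_mem_nil, or_false] at hg
      rcases hg with rfl | rfl
      · exact hf.trans (one_smul _ _).symm
      · exact ht
    apply hv0
    rcases hs with rfl | rfl
    · exact fivep_zero H hp v hfix (fixed_by_E H hp)
    · exact fivem_zero H hp v hfix (mem_opSub.1 hv)
  have hB : opApp 10 eB x = 0 := by
    obtain ⟨-, -, -, -, -, -, -, -, -, hAB⟩ := op_facts
    have e := opApp_conj hp (by norm_num) eB_evn eA_evn hAB x
    rwa [hA, smul_eq_zero_iff_eq] at e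
  rw [← sum_one H hp x, hA, hB, add_zero]

end Cfsg.Agent.Solv.AltSec.Five
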